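import Groth.Agent.TransLimH2.Immersion
import Groth.Agent.AlgSpLib.ThickAffAlg
import Groth.Agent.H8Lim.Stalk
import Mathlib.RingTheory.Regular.Flat

/-!
# Regular immersions in a limit of schemes with flat transition maps
-/

set_option autoImplicit false
set_option backward.isDefEq.respectTransparency false

universe u

open CategoryTheory Limits AlgebraicGeometry TopologicalSpace RingTheory.Sequence

namespace Groth.Agent.TransLimH2

theorem isWeaklyRegular_iff_forall {R : Type u} [CommRing R] (rs : List R) :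
    IsWeaklyRegular R rs ↔
      ∀ i : Fin rs.length, ∀ x, rs[i] * x ∈ Ideal.ofList (rs.take i) → x ∈ Ideal.ofList (rs.take i) := by
  rw [isWeaklyRegular_iff_Fin]
  refine forall_congr' fun i => ?_
  rw [isSMulRegular_quotient_iff_mem_of_smul_mem]
  simp only [smul_eq_mul, Ideal.mul_top]

/-- Weak regularity and equality of two ideals descend to a stage of a flat colimit. -/
theorem exists_stage_weaklyRegular {R : Type u} [CommRing R] {ι : Type u} {G : ι → Type u}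
    [∀ i, CommRing (G i)] [∀ i, Algebra R (G i)] {A : Type u} [CommRing A] [Algebra R A]
    {g : ∀ i, G i →ₐ[R] A} (hs : CAlgH.ColimSys g) (hflat : ∀ i, Module.Flat R (G i))
    (hcase : IsNoetherianRing R ∨ Module.FaithfullyFlat R A) (rs : List R)
    (h : IsWeaklyRegular A (rs.map (algebraMap R A))) (K : Ideal R) (hK : K.FG)
    (hid : K.map (algebraMap R A) = (Ideal.ofList rs).map (algebraMap R A)) :
    ∃ j, IsWeaklyRegular (G j) (rs.map (algebraMap R (G j))) ∧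
      K.map (algebraMap R (G j)) = (Ideal.ofList rs).map (algebraMap R (G j)) := by
  classical
  rw [isWeaklyRegular_iff_forall] at h
  have hcol : ∀ (i : Fin rs.length) (x : R), rs[i] * x ∈ Ideal.ofList (rs.take i) →
      algebraMap R A x ∈ (Ideal.ofList (rs.take i)).map (algebraMap R A) := fun i x hx => by
    have := h ⟨i, by simp⟩ (algebraMap R A x)
    simp only [Fin.getElem_fin, List.getElem_map, ← List.map_take, ← Ideal.map_ofList, ← map_mul] at this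
    exact this (Ideal.mem_map_of_mem _ hx)
  rcases hcase with hN | hF
  · have hfin : ∀ i : Fin rs.length,
        (Submodule.comap (LinearMap.mulLeft R rs[i]) (Ideal.ofList (rs.take i)) : Ideal R).FG :=
      fun i => IsNoetherian.noetherian _
    choose T hT using hfin
    obtain ⟨s, hs'⟩ := hK
    let κ := (Σ i : Fin rs.length, T i) ⊕ (rs.toFinset ⊕ s)
    let J : κ → List R := Sum.elim (fun t => rs.take t.1) (Sum.elim (fun _ => s.toList) fun _ => rs)
    let x : κ → R := Sum.elim (fun t => t.2.1) (Sum.elim (fun r => r.1) fun r => r.1)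
    have hsK : Ideal.ofList s.toList = K := by rw [← hs']; simp [Ideal.ofList]
    have hx : ∀ a, algebraMap R A (x a) ∈ (Ideal.ofList (J a)).map (algebraMap R A) := by
      rintro (⟨i, t⟩ | r | r)
      · have : (t : R) ∈ Submodule.comap (LinearMap.mulLeft R rs[i]) (Ideal.ofList (rs.take i)) := by
          rw [← hT i]
          exact Submodule.subset_span t.2
        exact hcol i t this
      · show _ ∈ (Ideal.ofList s.toList).map _
        rw [hsK, hid]
        exact Ideal.mem_map_of_mem _ (Ideal.subset_span (List.mem_toFinset.1 r.2))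
      · show _ ∈ (Ideal.ofList rs).map _
        rw [← hid]
        exact Ideal.mem_map_of_mem _ (hs' ▸ Ideal.subset_span r.2)
    choose b hb using fun a => exists_mem_map_stage hs (J a) (x a) (hx a)
    have hbound : ∀ F : Finset ι, ∃ j, ∀ i ∈ F, Nonempty (CAlgH.CompatHom g i j) := fun F => by
      induction F using Finset.induction with
      | empty => exact ⟨hs.nonempty.some, fun i hi => absurd hi (Finset.notMem_empty i)⟩
      | insert i F hi ih =>
        obtain ⟨j, hj⟩ := ih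
        obtain ⟨k, ⟨hik⟩, ⟨hjk⟩⟩ := hs.dir i j
        refine ⟨k, fun l hl => ?_⟩
        rcases Finset.mem_insert.1 hl with rfl | hl
        · exact ⟨hik⟩
        · obtain ⟨hlj⟩ := hj l hl
          exact ⟨⟨hjk.1.comp hlj.1, by rw [← AlgHom.comp_assoc, hjk.2, hlj.2]⟩⟩
    obtain ⟨j, hj⟩ := hbound (Finset.univ.image b)
    have hmem : ∀ a, algebraMap R (G j) (x a) ∈ (Ideal.ofList (J a)).map (algebraMap R (G j)) := fun a => by
      obtain ⟨φ⟩ := hj _ (Finset.mem_image_of_mem b (Finset.mem_univ a))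
      have := Ideal.mem_map_of_mem φ.1.toRingHom (hb a)
      rwa [Ideal.map_map, AlgHom.toRingHom_eq_coe, AlgHom.comp_algebraMap, RingHom.coe_coe, AlgHom.commutes] at this
    refine ⟨j, ?_, le_antisymm ?_ ?_⟩
    · rw [isWeaklyRegular_iff_forall]
      intro i z hz
      have hi : (i : ℕ) < rs.length := by simpa using i.2
      simp only [Fin.getElem_fin, List.getElem_map, ← List.map_take, ← Ideal.map_ofList] at hz ⊢
      rw [mul_comm] at hz
      have hz' := AlgSpLib.ThickAlg.map_colon_le_of_flat (f := algebraMap R (G j))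
        (RingHom.flat_algebraMap_iff.2 (hflat j)) _ rs[(i : ℕ)] hz
      refine Ideal.map_le_iff_le_comap.2 ?_ hz'
      exact (hT ⟨(i : ℕ), hi⟩).symm.le.trans
        (Submodule.span_le.2 fun t ht => hmem (Sum.inl ⟨⟨(i : ℕ), hi⟩, ⟨t, ht⟩⟩))
    · rw [← hs', Ideal.map_le_iff_le_comap, Submodule.span_le]
      exact fun r hr => hmem (Sum.inr (Sum.inr ⟨r, hr⟩))
    · rw [Ideal.map_le_iff_le_comap, Ideal.ofList, Ideal.span_le]
      intro r hr
      have := hmem (Sum.inr (Sum.inl ⟨r, List.mem_toFinset.2 hr⟩))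
      rwa [show Ideal.ofList (J (Sum.inr (Sum.inl ⟨r, List.mem_toFinset.2 hr⟩))) = K from hsK] at this
  · obtain ⟨j⟩ := hs.nonempty
    have := hflat j
    have hreg : IsWeaklyRegular R rs := (isWeaklyRegular_iff_forall rs).2 fun i x hx => by
      rw [← Ideal.comap_map_eq_self_of_faithfullyFlat (B := A) (Ideal.ofList (rs.take i))]
      exact hcol i x hx
    refine ⟨j, hreg.of_flat, ?_⟩
    rw [show K = Ideal.ofList rs by
      rw [← Ideal.comap_map_eq_self_of_faithfullyFlat (B := A) K, hid,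
        Ideal.comap_map_eq_self_of_faithfullyFlat]]

/-- A regular chart stays one after flat base change, at the points it meets. -/
theorem regChart_baseChange {Y X Y' X' : Scheme.{u}} {i : Y ⟶ X} {g : X' ⟶ X} {i' : Y' ⟶ X'} {g' : Y' ⟶ Y}
    (hsq : IsPullback g' i' i g) [Flat g] {U : X.Opens} (hU : IsAffineOpen U) [IsClosedImmersion (i ∣_ U)]
    {U' : X'.Opens} (hU' : IsAffineOpen U') (e : U' ≤ g ⁻¹ᵁ U) (rs : List Γ(X, U))
    (hrs : IsWeaklyRegular Γ(X, U) rs) (hker : RingHom.ker (i.app U).hom = Ideal.ofList rs) (z : Y')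
    (hz : i' z ∈ U') : RegImm.IsRegularImmersionAt RegImm.Kind.regular i' z := by
  obtain ⟨h1, h2⟩ := CAlgH.KoszulChart.baseChange i g i' g' hsq hU hU' e
  rw [hker, Ideal.map_ofList] at h2
  let _ := (g.appLE U U' e).hom.toAlgebra
  have : Module.Flat Γ(X, U) Γ(X', U') := g.flat_appLE hU hU' e
  refine ⟨⟨U', hU'⟩, hz, h1, _, ⟨hrs.of_flat, ?_⟩, h2⟩
  rw [smul_eq_mul, Ideal.mul_top]
  intro htop
  have htop' : RingHom.ker (i'.app U').hom = ⊤ := h2.trans htop.symm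
  have h10 : (i'.app U').hom 1 = 0 := RingHom.mem_ker.1 (htop' ▸ Submodule.mem_top)
  rw [map_one] at h10
  have := congrArg (Y'.presheaf.germ (i' ⁻¹ᵁ U') z hz).hom h10
  rw [map_one, map_zero] at this
  exact one_ne_zero this

theorem regAt_baseChange {Y X Y' X' : Scheme.{u}} {i : Y ⟶ X} {g : X' ⟶ X} {i' : Y' ⟶ X'} {g' : Y' ⟶ Y}
    (hsq : IsPullback g' i' i g) [Flat g] [IsAffineHom g] (z : Y')
    (h : RegImm.IsRegularImmersionAt RegImm.Kind.regular i (g' z)) :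
    RegImm.IsRegularImmersionAt RegImm.Kind.regular i' z := by
  obtain ⟨U, hz, hcl, rs, hrs, hker⟩ := h
  refine regChart_baseChange hsq U.2 (U.2.preimage g) le_rfl rs hrs.toIsWeaklyRegular hker z ?_
  show g (i' z) ∈ U.1
  rwa [← Scheme.Hom.comp_apply, ← hsq.w, Scheme.Hom.comp_apply]

theorem faithfullyFlat_appLE {X S : Scheme.{u}} (f : X ⟶ S) [Flat f] [Surjective f] [IsAffineHom f]
    {V : S.Opens} (hV : IsAffineOpen V) :
    letI := (f.appLE V (f ⁻¹ᵁ V) le_rfl).hom.toAlgebra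
    Module.FaithfullyFlat Γ(S, V) Γ(X, f ⁻¹ᵁ V) := by
  let _ := (f.appLE V (f ⁻¹ᵁ V) le_rfl).hom.toAlgebra
  have : Module.Flat Γ(S, V) Γ(X, f ⁻¹ᵁ V) := f.flat_appLE hV (hV.preimage f) le_rfl
  refine Module.FaithfullyFlat.of_comap_surjective fun p => ?_
  have hpV : hV.fromSpec p ∈ V := by
    rw [← SetLike.mem_coe, ← hV.range_fromSpec]
    exact ⟨p, rfl⟩
  obtain ⟨x, hx⟩ := f.surjective (hV.fromSpec p)
  have hxU : x ∈ f ⁻¹ᵁ V := by
    show f x ∈ V
    rw [hx]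
    exact hpV
  refine ⟨(hV.preimage f).primeIdealOf ⟨x, hxU⟩, hV.fromSpec.isOpenEmbedding.injective ?_⟩
  show hV.fromSpec (Spec.map (f.appLE V (f ⁻¹ᵁ V) le_rfl) ((hV.preimage f).primeIdealOf ⟨x, hxU⟩)) = hV.fromSpec p
  rw [← Scheme.Hom.comp_apply, hV.SpecMap_appLE_fromSpec f (hV.preimage f) le_rfl, Scheme.Hom.comp_apply,
    IsAffineOpen.fromSpec_primeIdealOf]
  exact hx

variable {I : Type u} [SmallCategory I] [IsCofiltered I] {D : I ⥤ Scheme.{u}} {c : Cone D}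

set_option maxHeartbeats 1600000 in
/-- A point of regularity at the limit comes from a stage. -/
theorem exists_stage_regAt [∀ (i j : I) (f : i ⟶ j), IsAffineHom (D.map f)] (hc : IsLimit c)
    (hflat : ∀ (i j : I) (f : i ⟶ j), Flat (D.map f)) {i₀ : I} {X₀ Y : Scheme.{u}} (j₀ : X₀ ⟶ D.obj i₀)
    [IsImmersion j₀]
    (hcase : (∀ i, IsLocallyNoetherian (D.obj i)) ∨
      ((∀ (i j : I) (f : i ⟶ j), Surjective (D.map f)) ∧ LocallyOfFinitePresentation j₀))
    {q : Y ⟶ X₀} {i : Y ⟶ c.pt} (hY : IsPullback q i j₀ (c.π.app i₀)) (y : Y)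
    (h : RegImm.IsRegularImmersionAt RegImm.Kind.regular i y) :
    ∃ (j : I) (φ : j ⟶ i₀) (v : Y ⟶ pullback j₀ (D.map φ)), v ≫ pullback.fst j₀ (D.map φ) = q ∧
      v ≫ pullback.snd j₀ (D.map φ) = i ≫ c.π.app j ∧
      RegImm.IsRegularImmersionAt RegImm.Kind.regular (pullback.snd j₀ (D.map φ)) (v y) := by
  classical
  have : ∀ {i j : I} (φ : i ⟶ j), IsAffineHom (D.map φ) := fun φ => inferInstance
  have : ∀ {i j : I} (φ : i ⟶ j), Flat (D.map φ) := fun φ => hflat _ _ φ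
  obtain ⟨Uc, hyc, hclc, rs, hrs, hkerc⟩ := h
  obtain ⟨U₁, hxU₁, hcl₁⟩ := CAlgH.KoszulDescentScheme.exists_closed_chart j₀ (q y)
  obtain ⟨hU₀, hxU₀⟩ := And.intro U₁.2 hxU₁
  let U₀ : (D.obj i₀).Opens := U₁.1
  let K₀ : Ideal Γ(D.obj i₀, U₀) := RingHom.ker (j₀.app U₀).hom
  have hK₀ : K₀.FG := by
    rcases hcase with hN | ⟨-, hp⟩
    · have := (hN i₀).component_noetherian U₁
      exact IsNoetherian.noetherian K₀
    · have hUY : IsAffineOpen (j₀ ⁻¹ᵁ U₀) := by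
        have : IsAffine U₀.toScheme := hU₀
        exact isAffine_of_isAffineHom (j₀ ∣_ U₀)
      have h := j₀.finitePresentation_appLE hU₀ hUY le_rfl
      rw [← Scheme.Hom.app_eq_appLE] at h
      let _ := (j₀.app U₀).hom.toAlgebra
      have : Algebra.FinitePresentation Γ(D.obj i₀, U₀) Γ(X₀, j₀ ⁻¹ᵁ U₀) := h
      exact Algebra.FinitePresentation.ker_fG_of_surjective (Algebra.ofId _ _)
        (CAlgH.RegImmStalk.app_surjective_of_restrict j₀ hU₀)
  have := isAffineHom_π_app D c hc i₀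
  -- the system over `i₀`
  let E : Over i₀ ⥤ Scheme.{u} := Over.forget i₀ ⋙ D
  let cE : Cone E := c.whisker (Over.forget i₀)
  have hcE : IsLimit cE := (Functor.Initial.isLimitWhiskerEquiv (Over.forget i₀) c).symm hc
  let p : ∀ j : Over i₀, E.obj j ⟶ D.obj i₀ := fun j => D.map j.hom
  have hp : ∀ {a b : Over i₀} (φ : a ⟶ b), E.map φ ≫ p b = p a := fun φ => by
    show D.map φ.left ≫ D.map _ = D.map _
    rw [← D.map_comp, Over.w]
  have : ∀ {a b : Over i₀} (f : a ⟶ b), IsAffineHom (E.map f) := fun f =>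
    inferInstanceAs (IsAffineHom (D.map f.left))
  let _ : ∀ j, Algebra Γ(D.obj i₀, U₀) Γ(E.obj j, p j ⁻¹ᵁ U₀) := fun j =>
    ((p j).appLE U₀ (p j ⁻¹ᵁ U₀) le_rfl).hom.toAlgebra
  let _ : Algebra Γ(D.obj i₀, U₀) Γ(cE.pt, c.π.app i₀ ⁻¹ᵁ U₀) :=
    ((c.π.app i₀).appLE U₀ (c.π.app i₀ ⁻¹ᵁ U₀) le_rfl).hom.toAlgebra
  have hsE := EGA43.InjFibre.colimSys_preimage (E := E) (cE := cE) hcE p hp (c.π.app i₀)
    (fun j => c.w j.hom) hU₀
  have hxW : i y ∈ c.π.app i₀ ⁻¹ᵁ U₀ := by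
    show (i ≫ c.π.app i₀) y ∈ U₀
    rw [← hY.w]
    exact hxU₀
  obtain ⟨η, hη, hxη⟩ := (hU₀.preimage (c.π.app i₀)).exists_basicOpen_le (V := Uc.1) ⟨i y, hyc⟩ hxW
  obtain ⟨k₁, η₁, hη₁⟩ := hsE.surj η
  let O : (D.obj k₁.left).Opens := (D.obj k₁.left).basicOpen η₁
  have hO : IsAffineOpen O := (hU₀.preimage (D.map k₁.hom)).basicOpen η₁
  have hOη : c.π.app k₁.left ⁻¹ᵁ O = c.pt.basicOpen η := by
    have hle : c.π.app i₀ ⁻¹ᵁ U₀ ≤ c.π.app k₁.left ⁻¹ᵁ D.map k₁.hom ⁻¹ᵁ U₀ := by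
      rw [← Scheme.Hom.comp_preimage, c.w]
    rw [← hη₁]
    show _ = c.pt.basicOpen
      (((c.π.app k₁.left).appLE (D.map k₁.hom ⁻¹ᵁ U₀) (c.π.app i₀ ⁻¹ᵁ U₀) hle).hom η₁)
    refine ((Scheme.basicOpen_appLE (c.π.app k₁.left) (c.π.app i₀ ⁻¹ᵁ U₀) (D.map k₁.hom ⁻¹ᵁ U₀) hle η₁).trans
      (inf_of_le_right ?_)).symm
    intro z hz
    have := (D.obj k₁.left).basicOpen_le η₁ hz
    show c.π.app i₀ z ∈ U₀
    rw [← c.w k₁.hom]
    exact this
  have hOc : c.π.app k₁.left ⁻¹ᵁ O ≤ Uc.1 := hOη.trans_le hη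
  have := isAffineHom_π_app D c hc k₁.left
  -- the system over the first stage
  let E₁ : Over k₁.left ⥤ Scheme.{u} := Over.forget k₁.left ⋙ D
  let cE₁ : Cone E₁ := c.whisker (Over.forget k₁.left)
  have hcE₁ : IsLimit cE₁ := (Functor.Initial.isLimitWhiskerEquiv (Over.forget k₁.left) c).symm hc
  let p₁ : ∀ j : Over k₁.left, E₁.obj j ⟶ D.obj k₁.left := fun j => D.map j.hom
  have hp₁ : ∀ {a b : Over k₁.left} (φ : a ⟶ b), E₁.map φ ≫ p₁ b = p₁ a := fun φ => by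
    show D.map φ.left ≫ D.map _ = D.map _
    rw [← D.map_comp, Over.w]
  have : ∀ {a b : Over k₁.left} (f : a ⟶ b), IsAffineHom (E₁.map f) := fun f =>
    inferInstanceAs (IsAffineHom (D.map f.left))
  let _ : ∀ j, Algebra Γ(D.obj k₁.left, O) Γ(E₁.obj j, p₁ j ⁻¹ᵁ O) := fun j =>
    ((p₁ j).appLE O (p₁ j ⁻¹ᵁ O) le_rfl).hom.toAlgebra
  let _ : Algebra Γ(D.obj k₁.left, O) Γ(cE₁.pt, c.π.app k₁.left ⁻¹ᵁ O) :=
    ((c.π.app k₁.left).appLE O (c.π.app k₁.left ⁻¹ᵁ O) le_rfl).hom.toAlgebra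
  have hsE₁ := EGA43.InjFibre.colimSys_preimage (E := E₁) (cE := cE₁) hcE₁ p₁ hp₁ (c.π.app k₁.left)
    (fun j => c.w j.hom) hO
  obtain ⟨k₂, r₂, hr₂⟩ := hsE₁.lift_finite
    (fun l : Fin rs.length => (c.pt.presheaf.map (homOfLE hOc).op).hom (rs.get l))
  let k := k₂.left
  let O₂ : (D.obj k).Opens := D.map k₂.hom ⁻¹ᵁ O
  have hO₂ : IsAffineOpen O₂ := hO.preimage _
  have := isAffineHom_π_app D c hc k
  have hle₂ : O₂ ≤ D.map (k₂.hom ≫ k₁.hom) ⁻¹ᵁ U₀ := fun z hz => by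
    rw [D.map_comp]
    exact (D.obj k₁.left).basicOpen_le η₁ hz
  let K₂ : Ideal Γ(D.obj k, O₂) := K₀.map ((D.map (k₂.hom ≫ k₁.hom)).appLE U₀ O₂ hle₂).hom
  let rs₂ : List Γ(D.obj k, O₂) := List.ofFn r₂
  let πk : c.pt ⟶ D.obj k := c.π.app k
  let π₁ : c.pt ⟶ D.obj k₁.left := c.π.app k₁.left
  let π₀ : c.pt ⟶ D.obj i₀ := c.π.app i₀
  have hw₁ : πk ≫ D.map k₂.hom = π₁ := c.w k₂.hom
  have hw₀ : πk ≫ D.map (k₂.hom ≫ k₁.hom) = π₀ := c.w _
  have : IsAffineHom πk := inferInstanceAs (IsAffineHom (c.π.app k))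
  have hOeq : πk ⁻¹ᵁ O₂ = π₁ ⁻¹ᵁ O := by rw [← Scheme.Hom.comp_preimage, hw₁]
  have hOa : IsAffineOpen (πk ⁻¹ᵁ O₂) := hO₂.preimage _
  have hOc₂ : πk ⁻¹ᵁ O₂ ≤ Uc.1 := hOeq.trans_le hOc
  have hleI : πk ⁻¹ᵁ O₂ ≤ π₀ ⁻¹ᵁ U₀ := by
    rw [hOeq, hOη]
    exact c.pt.basicOpen_le η
  have hrs₂ : rs₂.map (πk.appLE O₂ (πk ⁻¹ᵁ O₂) le_rfl).hom =
      rs.map (c.pt.presheaf.map (homOfLE hOc₂).op).hom := by
    simp only [rs₂, List.map_ofFn]
    conv_rhs => rw [← List.ofFn_get rs, List.map_ofFn]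
    refine congrArg List.ofFn (funext fun l => ?_)
    have h := congrArg (c.pt.presheaf.map (homOfLE hOeq.le).op).hom (hr₂ l)
    change ((πk.appLE O₂ (π₁ ⁻¹ᵁ O) hOeq.ge) ≫ c.pt.presheaf.map _) (r₂ l) =
      (c.pt.presheaf.map _ ≫ c.pt.presheaf.map _) (rs.get l) at h
    rw [Scheme.Hom.appLE_map, ← Functor.map_comp] at h
    exact h
  have hid : K₂.map (πk.appLE O₂ (πk ⁻¹ᵁ O₂) le_rfl).hom =
      (Ideal.ofList rs₂).map (πk.appLE O₂ (πk ⁻¹ᵁ O₂) le_rfl).hom := by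
    rw [map_appLE_comp hw₀ hle₂ le_rfl hleI, Ideal.map_ofList, hrs₂, ← Ideal.map_ofList,
      ← hkerc, ← (CAlgH.KoszulChart.baseChange j₀ π₀ i q hY hU₀ hOa hleI).2]
    exact (CAlgH.KoszulChart.restrict i Uc.2 hOa hOc₂).2
  have hreg : IsWeaklyRegular Γ(c.pt, πk ⁻¹ᵁ O₂)
      (rs₂.map (πk.appLE O₂ (πk ⁻¹ᵁ O₂) le_rfl).hom) := by
    rw [hrs₂]
    let _ := (c.pt.presheaf.map (homOfLE hOc₂).op).hom.toAlgebra
    have : Module.Flat Γ(c.pt, Uc.1) Γ(c.pt, πk ⁻¹ᵁ O₂) :=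
      CAlgH.KoszulChart.flat_restrict Uc.2 hOa hOc₂
    exact hrs.toIsWeaklyRegular.of_flat
  -- the system over the second stage
  let E₂ : Over k ⥤ Scheme.{u} := Over.forget k ⋙ D
  let cE₂ : Cone E₂ := c.whisker (Over.forget k)
  have hcE₂ : IsLimit cE₂ := (Functor.Initial.isLimitWhiskerEquiv (Over.forget k) c).symm hc
  let p₂ : ∀ j : Over k, E₂.obj j ⟶ D.obj k := fun j => D.map j.hom
  have hp₂ : ∀ {a b : Over k} (φ : a ⟶ b), E₂.map φ ≫ p₂ b = p₂ a := fun φ => by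
    show D.map φ.left ≫ D.map _ = D.map _
    rw [← D.map_comp, Over.w]
  have : ∀ {a b : Over k} (f : a ⟶ b), IsAffineHom (E₂.map f) := fun f =>
    inferInstanceAs (IsAffineHom (D.map f.left))
  let _ : ∀ j, Algebra Γ(D.obj k, O₂) Γ(E₂.obj j, p₂ j ⁻¹ᵁ O₂) := fun j =>
    ((p₂ j).appLE O₂ (p₂ j ⁻¹ᵁ O₂) le_rfl).hom.toAlgebra
  let _ : Algebra Γ(D.obj k, O₂) Γ(cE₂.pt, c.π.app k ⁻¹ᵁ O₂) :=
    ((c.π.app k).appLE O₂ (c.π.app k ⁻¹ᵁ O₂) le_rfl).hom.toAlgebra
  have hsE₂ := EGA43.InjFibre.colimSys_preimage (E := E₂) (cE := cE₂) hcE₂ p₂ hp₂ (c.π.app k)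
    (fun j => c.w j.hom) hO₂
  obtain ⟨l, hl₁, hl₂⟩ := exists_stage_weaklyRegular hsE₂
    (fun j => (D.map j.hom).flat_appLE hO₂ (hO₂.preimage _) le_rfl)
    (by
      rcases hcase with hN | ⟨hS, -⟩
      · exact Or.inl ((hN k).component_noetherian ⟨O₂, hO₂⟩)
      · refine Or.inr ?_
        have := H8Lim.flat_π hc k fun j φ => hflat j k φ
        have : Surjective (c.π.app k) := ⟨fun t => by
          have : t ∈ Set.range (c.π.app k) := by
            rw [H8Lim.range_π_eq hc k]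
            simp only [Set.mem_iInter]
            exact fun j φ => (hS j k φ).1 t
          exact this⟩
        exact faithfullyFlat_appLE (c.π.app k) hO₂)
    rs₂ hreg K₂ (hK₀.map _) hid
  let φ : l.left ⟶ i₀ := l.hom ≫ k₂.hom ≫ k₁.hom
  let v : Y ⟶ pullback j₀ (D.map φ) :=
    pullback.lift q (i ≫ c.π.app l.left) (by rw [hY.w, Category.assoc, c.w])
  refine ⟨l.left, φ, v, pullback.lift_fst _ _ _, pullback.lift_snd _ _ _, ?_⟩
  let W := D.map l.hom ⁻¹ᵁ O₂
  have hW : IsAffineOpen W := hO₂.preimage _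
  have hWU : W ≤ D.map φ ⁻¹ᵁ U₀ := fun z hz => by
    simp only [φ, D.map_comp]
    rw [D.map_comp] at hle₂
    exact hle₂ hz
  obtain ⟨hcl₃, hker₃⟩ := CAlgH.KoszulChart.baseChange j₀ (D.map φ) (pullback.snd j₀ (D.map φ))
    (pullback.fst j₀ (D.map φ)) (IsPullback.of_hasPullback _ _) hU₀ hW hWU
  have hz : pullback.snd j₀ (D.map φ) (v y) ∈ W := by
    rw [← Scheme.Hom.comp_apply, pullback.lift_snd, Scheme.Hom.comp_apply]
    show D.map l.hom (c.π.app l.left (i y)) ∈ O₂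
    rw [← Scheme.Hom.comp_apply (c.π.app l.left), c.w]
    have : i y ∈ c.π.app k ⁻¹ᵁ O₂ := by rw [hOeq, hOη]; exact hxη
    exact this
  refine regChart_baseChange (g := 𝟙 _) (g' := 𝟙 _) IsPullback.of_id_fst hW hW le_rfl _ hl₁ ?_ (v y) hz
  show _ = Ideal.ofList (rs₂.map ((D.map l.hom).appLE O₂ W le_rfl).hom)
  rw [hker₃, ← Ideal.map_ofList]
  refine Eq.trans ?_ hl₂
  exact (map_appLE_comp (f := D.map l.hom) (g := D.map (k₂.hom ≫ k₁.hom)) (D.map_comp _ _).symm hle₂ le_rfl hWU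
    K₀).symm

set_option maxHeartbeats 800000 in
theorem regular_main [∀ (i j : I) (f : i ⟶ j), IsAffineHom (D.map f)] (hc : IsLimit c)
    (hflat : ∀ (i j : I) (f : i ⟶ j), Flat (D.map f)) (i₀ : I) {X₀ : Scheme.{u}} (j₀ : X₀ ⟶ D.obj i₀)
    [CompactSpace X₀] [IsImmersion j₀]
    (hcase : (∀ i, IsLocallyNoetherian (D.obj i)) ∨
      ((∀ (i j : I) (f : i ⟶ j), Surjective (D.map f)) ∧ LocallyOfFinitePresentation j₀)) :
    RegImm.IsRegularImmersion RegImm.Kind.regular (pullback.snd j₀ (c.π.app i₀)) ↔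
      ∃ (j : I) (φ : j ⟶ i₀),
        RegImm.IsRegularImmersion RegImm.Kind.regular (pullback.snd j₀ (D.map φ)) := by
  classical
  have : ∀ {i j : I} (φ : i ⟶ j), IsAffineHom (D.map φ) := fun φ => inferInstance
  have : ∀ {i j : I} (φ : i ⟶ j), Flat (D.map φ) := fun φ => hflat _ _ φ
  let q := pullback.fst j₀ (c.π.app i₀)
  let i := pullback.snd j₀ (c.π.app i₀)
  have hY : IsPullback q i j₀ (c.π.app i₀) := IsPullback.of_hasPullback _ _
  constructor
  · rintro ⟨-, h⟩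
    let EY := EGA43.Limit.stage D j₀
    let cY := EGA43.Limit.stageCone D c j₀ hY
    have hcY : IsLimit cY := EGA43.Limit.isLimitStageCone D c j₀ hY hc
    let At : ∀ j : Over i₀, EY.obj j → Prop := fun j y =>
      RegImm.IsRegularImmersionAt RegImm.Kind.regular (pullback.snd j₀ (D.map j.hom)) y
    let O : ∀ j, (EY.obj j).Opens := fun j => ⟨{y | At j y}, by
      rw [isOpen_iff_forall_mem_open]
      rintro y ⟨U, hyU, hcl, rs, h1, h2⟩
      exact ⟨((pullback.snd j₀ (D.map j.hom) ⁻¹ᵁ U.1 : (EY.obj j).Opens) : Set (EY.obj j)),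
        fun z hz => ⟨U, hz, hcl, rs, h1, h2⟩,
        (pullback.snd j₀ (D.map j.hom) ⁻¹ᵁ U.1).isOpen, hyU⟩⟩
    have hmono : ∀ {j l : Over i₀} (ψ : j ⟶ l), EY.map ψ ⁻¹ᵁ O l ≤ O j := fun {j l} ψ z hz =>
      regAt_baseChange (EGA43.Limit.stage_isPullback D j₀ ψ) z hz
    have hcover : ∀ y : cY.pt, ∃ j : Over i₀, cY.π.app j y ∈ O j := fun y => by
      obtain ⟨j', φ, v, h1, h2, h3⟩ := exists_stage_regAt hc hflat j₀ hcase hY y (h y)
      refine ⟨Over.mk φ, ?_⟩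
      have hv : cY.π.app (Over.mk φ) = v := by
        apply pullback.hom_ext
        · exact (pullback.lift_fst _ _ _).trans h1.symm
        · exact (pullback.lift_snd _ _ _).trans h2.symm
      rw [hv]
      exact h3
    let pY : ∀ j : Over i₀, EY.obj j ⟶ X₀ := fun j => pullback.fst j₀ (D.map j.hom)
    have : ∀ j : Over i₀, IsAffineHom (pY j) :=
      fun j => MorphismProperty.pullback_fst j₀ (D.map j.hom) inferInstance
    have : ∀ j : Over i₀, CompactSpace (EY.obj j) := fun j =>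
      QuasiCompact.compactSpace_of_compactSpace (pY j)
    have : ∀ {j l : Over i₀} (ψ : j ⟶ l), IsAffineHom (EY.map ψ) := fun ψ => inferInstance
    have : CompactSpace cY.pt := Scheme.compactSpace_of_isLimit EY cY hcY
    obtain ⟨t, ht⟩ := isCompact_univ.elim_finite_subcover
      (fun j => ((cY.π.app j ⁻¹ᵁ O j : cY.pt.Opens) : Set cY.pt))
      (fun j => Opens.isOpen _) fun x _ => Set.mem_iUnion.2 (hcover x)
    obtain ⟨k, hk⟩ := IsCofiltered.inf_objs_exists t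
    have hk' : cY.π.app k ⁻¹ᵁ O k = ⊤ := top_le_iff.1 fun x _ => by
      obtain ⟨j, hj, hx⟩ := Set.mem_iUnion₂.1 (ht (Set.mem_univ x))
      refine hmono (hk hj).some ?_
      show EY.map (hk hj).some (cY.π.app k x) ∈ O j
      rw [← Scheme.Hom.comp_apply, cY.w]
      exact hx
    obtain ⟨l, ψ, hl⟩ := exists_map_eq_top EY cY hcY (O k) hk'
    exact ⟨l.left, l.hom, inferInstance, fun z => hmono ψ (hl.ge trivial)⟩
  · rintro ⟨j, φ, -, h⟩
    refine ⟨inferInstance, fun y => ?_⟩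
    have := isAffineHom_π_app D c hc j
    have := H8Lim.flat_π hc j fun a f => hflat a j f
    let v : pullback j₀ (c.π.app i₀) ⟶ pullback j₀ (D.map φ) :=
      pullback.lift q (i ≫ c.π.app j) (by rw [hY.w, Category.assoc, c.w])
    have hs : IsPullback v i (pullback.snd j₀ (D.map φ)) (c.π.app j) := by
      refine IsPullback.of_right ?_ (pullback.lift_snd _ _ _) (IsPullback.of_hasPullback j₀ (D.map φ))
      rw [pullback.lift_fst, c.w]
      exact hY
    exact regAt_baseChange hs y (h (v y))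

end Groth.Agent.TransLimH2
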