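import Groth.Agent.TransLimH2.RegularLimit

/-!
# Regular sequences of global functions in a limit with flat transition maps
-/

set_option autoImplicit false
set_option backward.isDefEq.respectTransparency false

universe u

open CategoryTheory Limits AlgebraicGeometry TopologicalSpace RingTheory.Sequence

namespace Groth.Agent.TransLimH2

theorem weaklyRegular_of_cover {X : Scheme.{u}} {U : X.Opens} (hU : IsAffineOpen U) (rs : List Γ(X, U))
    (h : ∀ x ∈ U, ∃ (W : X.Opens) (_ : IsAffineOpen W) (hle : W ≤ U), x ∈ W ∧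
      IsWeaklyRegular Γ(X, W) (rs.map (X.presheaf.map (homOfLE hle).op).hom)) :
    IsWeaklyRegular Γ(X, U) rs := by
  classical
  let s : Set Γ(X, U) := {g | IsWeaklyRegular Γ(X, X.basicOpen g)
    (rs.map (X.presheaf.map (homOfLE (X.basicOpen_le g)).op).hom)}
  have hs : Ideal.span s = ⊤ := by
    rw [← hU.self_le_iSup_basicOpen_iff]
    intro x hx
    obtain ⟨W, hW, hle, hxW, hreg⟩ := h x hx
    obtain ⟨g, hg, hxg⟩ := hU.exists_basicOpen_le (V := W) ⟨x, hxW⟩ hx
    refine Opens.mem_iSup.2 ⟨⟨g, ?_⟩, hxg⟩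
    show IsWeaklyRegular _ _
    let _ := (X.presheaf.map (homOfLE hg).op).hom.toAlgebra
    have : Module.Flat Γ(X, W) Γ(X, X.basicOpen g) :=
      CAlgH.KoszulChart.flat_restrict hW (hU.basicOpen g) hg
    have := hreg.of_flat (S := Γ(X, X.basicOpen g))
    rw [List.map_map] at this
    convert this using 1
    refine List.map_congr_left fun r _ => ?_
    show _ = (X.presheaf.map _ ≫ X.presheaf.map _) r
    rw [← Functor.map_comp]
    rfl
  rw [isWeaklyRegular_iff_forall]
  intro i x hx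
  refine Submodule.mem_of_span_eq_top_of_smul_pow_mem _ s hs x fun g => ?_
  let _ := (X.presheaf.map (homOfLE (X.basicOpen_le g.1)).op).hom.toAlgebra
  have : IsLocalization.Away g.1 Γ(X, X.basicOpen g.1) := hU.isLocalization_basicOpen g.1
  have hg := (isWeaklyRegular_iff_forall _).1
    (show IsWeaklyRegular Γ(X, X.basicOpen g.1) (rs.map (algebraMap Γ(X, U) Γ(X, X.basicOpen g.1))) from g.2)
    ⟨i, by simp⟩ (algebraMap Γ(X, U) Γ(X, X.basicOpen g.1) x)
  simp only [Fin.getElem_fin, List.getElem_map, ← List.map_take, ← Ideal.map_ofList, ← map_mul] at hg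
  have := hg (Ideal.mem_map_of_mem _ hx)
  rw [IsLocalization.algebraMap_mem_map_algebraMap_iff (Submonoid.powers g.1)] at this
  obtain ⟨_, ⟨n, rfl⟩, hn⟩ := this
  exact ⟨n, hn⟩

variable {I : Type u} [SmallCategory I] [IsCofiltered I] {D : I ⥤ Scheme.{u}} {c : Cone D}

theorem flat_map_appLE_weaklyRegular {X Y : Scheme.{u}} (g : X ⟶ Y) [Flat g] (fs : List Γ(Y, ⊤))
    (h : ∀ U : Y.affineOpens, IsWeaklyRegular Γ(Y, U.1)
      (fs.map (fun f => (Y.presheaf.map (homOfLE (le_top : U.1 ≤ ⊤)).op).hom f))) (U : X.affineOpens) :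
    IsWeaklyRegular Γ(X, U.1)
      (fs.map (fun f => (X.presheaf.map (homOfLE (le_top : U.1 ≤ ⊤)).op).hom (g.appTop.hom f))) := by
  refine weaklyRegular_of_cover U.2 _ fun x hx => ?_
  obtain ⟨V, hV, hxV, -⟩ := exists_isAffineOpen_mem_and_subset (x := g x) (U := ⊤) trivial
  obtain ⟨W, hW, hxW, hWle⟩ := exists_isAffineOpen_mem_and_subset (x := x) (U := U.1 ⊓ g ⁻¹ᵁ V) ⟨hx, hxV⟩
  refine ⟨W, hW, hWle.trans inf_le_left, hxW, ?_⟩
  let _ := (g.appLE V W (hWle.trans inf_le_right)).hom.toAlgebra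
  have : Module.Flat Γ(Y, V) Γ(X, W) := g.flat_appLE hV hW _
  have := (h ⟨V, hV⟩).of_flat (S := Γ(X, W))
  rw [List.map_map] at this
  rw [List.map_map]
  convert this using 1
  refine List.map_congr_left fun f _ => ?_
  show (g.app ⊤ ≫ X.presheaf.map _ ≫ X.presheaf.map _) f = (Y.presheaf.map _ ≫ g.appLE V W _) f
  rw [← Functor.map_comp, Scheme.Hom.map_appLE]
  rfl

theorem weaklyRegular_seq_main [∀ (i j : I) (f : i ⟶ j), IsAffineHom (D.map f)] (hc : IsLimit c)
    (hflat : ∀ (i j : I) (f : i ⟶ j), Flat (D.map f))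
    (hcase : (∀ i : I, IsLocallyNoetherian (D.obj i)) ∨ ∀ (i j : I) (f : i ⟶ j), Surjective (D.map f))
    (i₀ : I) [CompactSpace (D.obj i₀)] (fs : List Γ(D.obj i₀, ⊤)) :
    (∀ U : c.pt.affineOpens, IsWeaklyRegular Γ(c.pt, U.1)
        (fs.map (fun f => (c.pt.presheaf.map (homOfLE (le_top : U.1 ≤ ⊤)).op).hom ((c.π.app i₀).appTop.hom f)))) ↔
      ∃ (j : I) (φ : j ⟶ i₀), ∀ U : (D.obj j).affineOpens,
        IsWeaklyRegular Γ(D.obj j, U.1)
          (fs.map (fun f => ((D.obj j).presheaf.map (homOfLE (le_top : U.1 ≤ ⊤)).op).hom ((D.map φ).appTop.hom f))) := by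
  classical
  have : ∀ {i j : I} (φ : i ⟶ j), IsAffineHom (D.map φ) := fun φ => inferInstance
  constructor
  · intro h
    have hcov : ∀ x : D.obj i₀, ∃ V : (D.obj i₀).Opens, IsAffineOpen V ∧ x ∈ V := fun x => by
      obtain ⟨V, hV, hxV, -⟩ := exists_isAffineOpen_mem_and_subset (x := x) (U := ⊤) trivial
      exact ⟨V, hV, hxV⟩
    choose V hV hxV using hcov
    obtain ⟨t, ht⟩ := isCompact_univ.elim_finite_subcover (fun x => (V x : Set (D.obj i₀)))
      (fun x => (V x).isOpen) fun x _ => Set.mem_iUnion.2 ⟨x, hxV x⟩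
    have hstage : ∀ x, ∃ l : Over i₀, IsWeaklyRegular Γ(D.obj l.left, D.map l.hom ⁻¹ᵁ V x)
        (fs.map (fun f => ((D.map l.hom).appLE ⊤ (D.map l.hom ⁻¹ᵁ V x) le_top).hom f)) := fun x => by
      have := isAffineHom_π_app D c hc i₀
      let π₀ : c.pt ⟶ D.obj i₀ := c.π.app i₀
      have : IsAffineHom π₀ := inferInstanceAs (IsAffineHom (c.π.app i₀))
      let E : Over i₀ ⥤ Scheme.{u} := Over.forget i₀ ⋙ D
      let cE : Cone E := c.whisker (Over.forget i₀)
      have hcE : IsLimit cE := (Functor.Initial.isLimitWhiskerEquiv (Over.forget i₀) c).symm hc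
      let p : ∀ j : Over i₀, E.obj j ⟶ D.obj i₀ := fun j => D.map j.hom
      have hp : ∀ {a b : Over i₀} (φ : a ⟶ b), E.map φ ≫ p b = p a := fun φ => by
        show D.map φ.left ≫ D.map _ = D.map _
        rw [← D.map_comp, Over.w]
      have : ∀ {a b : Over i₀} (f : a ⟶ b), IsAffineHom (E.map f) := fun f =>
        inferInstanceAs (IsAffineHom (D.map f.left))
      let _ : ∀ j, Algebra Γ(D.obj i₀, V x) Γ(E.obj j, p j ⁻¹ᵁ V x) := fun j =>
        ((p j).appLE (V x) (p j ⁻¹ᵁ V x) le_rfl).hom.toAlgebra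
      let _ : Algebra Γ(D.obj i₀, V x) Γ(cE.pt, π₀ ⁻¹ᵁ V x) :=
        (π₀.appLE (V x) (π₀ ⁻¹ᵁ V x) le_rfl).hom.toAlgebra
      have hsE := EGA43.InjFibre.colimSys_preimage (E := E) (cE := cE) hcE p hp π₀
        (fun j => c.w j.hom) (hV x)
      obtain ⟨l, hl, -⟩ := exists_stage_weaklyRegular hsE
        (fun j => by
          have : Flat (D.map j.hom) := hflat _ _ _
          exact (D.map j.hom).flat_appLE (hV x) ((hV x).preimage _) le_rfl)
        (by
          rcases hcase with hN | hS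
          · exact Or.inl ((hN i₀).component_noetherian ⟨V x, hV x⟩)
          · refine Or.inr ?_
            have := H8Lim.flat_π hc i₀ fun j φ => hflat j i₀ φ
            have : Surjective π₀ := ⟨fun t => by
              have : t ∈ Set.range (c.π.app i₀) := by
                rw [H8Lim.range_π_eq hc i₀]
                simp only [Set.mem_iInter]
                exact fun j φ => (hS j i₀ φ).1 t
              exact this⟩
            have : Flat π₀ := inferInstanceAs (Flat (c.π.app i₀))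
            exact faithfullyFlat_appLE π₀ (hV x))
        (fs.map (fun f => ((D.obj i₀).presheaf.map (homOfLE (le_top : V x ≤ ⊤)).op).hom f))
        (by
          have := h ⟨π₀ ⁻¹ᵁ V x, (hV x).preimage π₀⟩
          rw [List.map_map]
          refine cast (congrArg (IsWeaklyRegular Γ(cE.pt, π₀ ⁻¹ᵁ V x)) (List.map_congr_left fun f _ => ?_)) this
          symm
          show ((D.obj i₀).presheaf.map _ ≫ π₀.appLE (V x) _ _) f = (π₀.app ⊤ ≫ c.pt.presheaf.map _) f
          rw [Scheme.Hom.map_appLE]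
          rfl) (Ideal.ofList _) ⟨_, congrArg Ideal.span (List.coe_toFinset _)⟩ rfl
      refine ⟨l, ?_⟩
      rw [List.map_map] at hl
      refine cast (congrArg (IsWeaklyRegular Γ(D.obj l.left, D.map l.hom ⁻¹ᵁ V x))
        (List.map_congr_left fun f _ => ?_)) hl
      symm
      show _ = ((D.obj i₀).presheaf.map _ ≫ (D.map l.hom).appLE (V x) _ _) f
      rw [Scheme.Hom.map_appLE]
    choose a ha using hstage
    obtain ⟨l, hl⟩ := IsCofiltered.inf_objs_exists (t.image a)
    refine ⟨l.left, l.hom, fun U => weaklyRegular_of_cover U.2 _ fun z hz => ?_⟩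
    obtain ⟨x, hx, hzx⟩ := Set.mem_iUnion₂.1 (ht (Set.mem_univ (D.map l.hom z)))
    obtain ⟨ψ⟩ := hl (Finset.mem_image_of_mem a hx)
    have hψ : D.map ψ.left ≫ D.map (a x).hom = D.map l.hom := by rw [← D.map_comp, Over.w]
    have hzW : z ∈ D.map ψ.left ⁻¹ᵁ (D.map (a x).hom ⁻¹ᵁ V x) := by
      show (D.map ψ.left ≫ D.map (a x).hom) z ∈ V x
      rw [hψ]
      exact hzx
    obtain ⟨W, hW, hzW', hWle⟩ := exists_isAffineOpen_mem_and_subset (x := z)
      (U := U.1 ⊓ D.map ψ.left ⁻¹ᵁ (D.map (a x).hom ⁻¹ᵁ V x)) ⟨hz, hzW⟩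
    refine ⟨W, hW, hWle.trans inf_le_left, hzW', ?_⟩
    let _ := ((D.map ψ.left).appLE (D.map (a x).hom ⁻¹ᵁ V x) W (hWle.trans inf_le_right)).hom.toAlgebra
    have : Flat (D.map ψ.left) := hflat _ _ _
    have : Module.Flat Γ(D.obj (a x).left, D.map (a x).hom ⁻¹ᵁ V x) Γ(D.obj l.left, W) :=
      (D.map ψ.left).flat_appLE ((hV x).preimage _) hW _
    have := (ha x).of_flat (S := Γ(D.obj l.left, W))
    rw [List.map_map] at this
    rw [List.map_map]
    convert this using 1
    refine List.map_congr_left fun f _ => ?_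
    show ((D.map l.hom).app ⊤ ≫ (D.obj l.left).presheaf.map _ ≫ (D.obj l.left).presheaf.map _) f =
      ((D.map (a x).hom).appLE ⊤ _ _ ≫ (D.map ψ.left).appLE _ W _) f
    rw [← Functor.map_comp, Scheme.Hom.appLE_comp_appLE]
    simp only [hψ]
    rfl
  · rintro ⟨j, φ, h⟩ U
    let π : c.pt ⟶ D.obj j := c.π.app j
    have : Flat π := H8Lim.flat_π hc j fun a f => hflat a j f
    have hπ : π ≫ D.map φ = c.π.app i₀ := c.w φ
    have := flat_map_appLE_weaklyRegular π (fs.map (D.map φ).appTop.hom)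
      (fun W => by rw [List.map_map]; exact h W) U
    rw [List.map_map] at this
    convert this using 1
    refine List.map_congr_left fun f _ => ?_
    rw [← hπ, Scheme.Hom.comp_appTop]
    rfl

end Groth.Agent.TransLimH2
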