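import Groth.Prelude.Def_RegImm
import Groth.Agent.Props12.FlatOver
import Mathlib.RingTheory.Regular.Flat
import Mathlib.RingTheory.Flat.Localization
import Mathlib.AlgebraicGeometry.Morphisms.Affine

/-!
# Transversally regular sequences of global sections are detected at the stalks
-/

set_option autoImplicit false
set_option backward.isDefEq.respectTransparency false

universe u

open CategoryTheory AlgebraicGeometry

namespace Groth.Agent.TransLimH2

section Ring

variable {A B : Type u} [CommRing A] [CommRing B] [Algebra A B]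

theorem map_ofList_take {C : Type u} [CommRing C] (φ : B →+* C) (rs : List B) (k : ℕ) :
    (Ideal.ofList (rs.take k)).map φ = Ideal.ofList ((rs.map φ).take k) := by
  rw [Ideal.map_ofList, List.map_take]

/-- The quotient map to a localization. -/
noncomputable def quotLoc {C : Type u} [CommRing C] [Algebra B C] (I : Ideal B) :
    (B ⧸ I) →ₗ[B] C ⧸ I.map (algebraMap B C) :=
  (Ideal.quotientMapₐ (I.map (algebraMap B C)) (Algebra.ofId B C) Ideal.le_comap_map).toLinearMap

theorem quotLoc_mk {C : Type u} [CommRing C] [Algebra B C] (I : Ideal B) (b : B) :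
    quotLoc (C := C) I (Ideal.Quotient.mk I b) = Ideal.Quotient.mk _ (algebraMap B C b) := rfl

theorem isLocalizedModule_quotLoc (N : Submonoid B) {C : Type u} [CommRing C] [Algebra B C]
    [IsLocalization N C] (I : Ideal B) : IsLocalizedModule N (quotLoc (C := C) I) := by
  have h : I.localized' C N (Algebra.linearMap B C) = I.map (algebraMap B C) :=
    Ideal.localized'_eq_map C N I
  let e : (C ⧸ I.localized' C N (Algebra.linearMap B C)) ≃ₗ[B] C ⧸ I.map (algebraMap B C) :=
    (Submodule.quotEquivOfEq _ _ h).restrictScalars B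
  have he : e.toLinearMap ∘ₗ Submodule.toLocalizedQuotient' C N (Algebra.linearMap B C) I =
      quotLoc (C := C) I := Submodule.linearMap_qext _ (LinearMap.ext fun b => rfl)
  rw [← he]
  exact IsLocalizedModule.of_linearEquiv N _ e

theorem trans_localization (M : Submonoid A) (N : Submonoid B) {Aq Bq : Type u} [CommRing Aq]
    [CommRing Bq] [Algebra A Aq] [Algebra B Bq] [IsLocalization M Aq] [IsLocalization N Bq]
    [Algebra Aq Bq] [Algebra A Bq] [IsScalarTower A Aq Bq] [IsScalarTower A B Bq]
    (rs : List B) (h : RegImm.IsTransRegularSeq A B rs) :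
    RegImm.IsTransRegularSeq Aq Bq (rs.map (algebraMap B Bq)) := by
  haveI : Module.Flat B Bq := IsLocalization.flat Bq N
  refine ⟨RingTheory.Sequence.IsWeaklyRegular.of_flat h.1, fun k hk => ?_⟩
  rw [List.length_map] at hk
  rw [← map_ofList_take (algebraMap B Bq)]
  haveI := h.2 k hk
  haveI := isLocalizedModule_quotLoc (C := Bq) N (Ideal.ofList (rs.take k))
  haveI : Module.Flat A (Bq ⧸ (Ideal.ofList (rs.take k)).map (algebraMap B Bq)) := by
    haveI := Props12.flat_localizedModule (A := A) N (B ⧸ Ideal.ofList (rs.take k))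
    exact Module.Flat.of_linearEquiv
      ((IsLocalizedModule.iso N (quotLoc (C := Bq) (Ideal.ofList (rs.take k)))).restrictScalars A).symm
  exact (Module.flat_iff_of_isLocalization Aq M _).2 inferInstance

theorem trans_of_forall_maximal (rs : List B)
    (h : ∀ (q : Ideal B) [q.IsMaximal], ∃ (C : Type u) (_ : CommRing C) (_ : Algebra B C) (_ : Algebra A C)
      (_ : IsScalarTower A B C), IsLocalization.AtPrime C q ∧
        RingTheory.Sequence.IsWeaklyRegular C (rs.map (algebraMap B C)) ∧
        ∀ k ≤ rs.length, Module.Flat A (C ⧸ Ideal.ofList ((rs.map (algebraMap B C)).take k))) :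
    RegImm.IsTransRegularSeq A B rs := by
  choose Bq i1 i2 i3 i4 hloc hreg hflat using h
  haveI := @hloc
  refine ⟨⟨fun k hk => ?_⟩, fun k hk => ?_⟩
  · rw [show (Ideal.ofList (rs.take k) • ⊤ : Ideal B) = Ideal.ofList (rs.take k) from Ideal.mul_top _]
    refine IsSMulRegular.of_right_eq_zero_of_smul fun z hz => ?_
    let I := Ideal.ofList (rs.take k)
    haveI : ∀ (q : Ideal B) [q.IsMaximal], IsLocalizedModule.AtPrime q (quotLoc (C := Bq q) I) :=
      fun q _ => isLocalizedModule_quotLoc (C := Bq q) q.primeCompl I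
    refine Module.eq_zero_of_localization_maximal
      (fun q _ => Bq q ⧸ I.map (algebraMap B (Bq q))) (fun q _ => quotLoc (C := Bq q) I) z fun q hq => ?_
    have hr := (hreg q).regular_mod_prev k (by rw [List.length_map]; exact hk)
    rw [show (Ideal.ofList ((rs.map (algebraMap B (Bq q))).take k) • ⊤ : Ideal (Bq q)) =
      I.map (algebraMap B (Bq q)) from (Ideal.mul_top _).trans (map_ofList_take _ rs k).symm] at hr
    refine hr.right_eq_zero_of_smul ?_
    rw [List.getElem_map, algebraMap_smul, ← map_smul, hz, map_zero]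
  · let I := Ideal.ofList (rs.take k)
    haveI : ∀ (q : Ideal B) [q.IsMaximal], IsLocalizedModule.AtPrime q (quotLoc (C := Bq q) I) :=
      fun q _ => isLocalizedModule_quotLoc (C := Bq q) q.primeCompl I
    refine Module.flat_of_isLocalized_maximal B (B ⧸ I) (fun q _ => Bq q ⧸ I.map (algebraMap B (Bq q)))
      (fun q _ => quotLoc (C := Bq q) I) fun q _ => ?_
    have hf := hflat q k hk
    rw [← map_ofList_take] at hf
    exact hf

end Ring

variable {X S : Scheme.{u}} (g : X ⟶ S) (fs : List Γ(X, ⊤))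

/-- Transversal regularity over a pair of affine opens, as in the statement. -/
def OnPair (U : X.Opens) (V : S.Opens) (e : U ≤ g ⁻¹ᵁ V) : Prop :=
  @RegImm.IsTransRegularSeq Γ(S, V) Γ(X, U) _ _ (g.appLE V U e).hom.toAlgebra
    (fs.map fun f => (X.presheaf.map (homOfLE (le_top : U ≤ ⊤)).op).hom f)

/-- Transversal regularity at a point. -/
def AtPoint (x : X) : Prop :=
  @RegImm.IsTransRegularSeq (S.presheaf.stalk (g x)) (X.presheaf.stalk x) _ _
    (g.stalkMap x).hom.toAlgebra (fs.map fun f => (X.presheaf.germ ⊤ x trivial).hom f)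

theorem map_res_germ (U : X.Opens) (x : X) (hx : x ∈ U) :
    (fs.map fun f => (X.presheaf.map (homOfLE (le_top : U ≤ ⊤)).op).hom f).map (X.presheaf.germ U x hx).hom =
      fs.map fun f => (X.presheaf.germ ⊤ x trivial).hom f := by
  rw [List.map_map]
  exact List.map_congr_left fun f _ => X.presheaf.germ_res_apply _ x hx f

theorem onPair_iff {U : X.Opens} (hU : IsAffineOpen U) {V : S.Opens} (hV : IsAffineOpen V)
    (e : U ≤ g ⁻¹ᵁ V) : OnPair g fs U V e ↔ ∀ x ∈ U, AtPoint g fs x := by
  letI := (g.appLE V U e).hom.toAlgebra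
  have hsq : ∀ (x : X) (hx : x ∈ U) (a : Γ(S, V)),
      (g.stalkMap x).hom ((S.presheaf.germ V (g x) (e hx)).hom a) =
        (X.presheaf.germ U x hx).hom (algebraMap Γ(S, V) Γ(X, U) a) := by
    intro x hx a
    change ((S.presheaf.germ V (g x) (e hx)) ≫ g.stalkMap x) a =
      (g.appLE V U e ≫ X.presheaf.germ U x hx) a
    rw [Scheme.Hom.germ_stalkMap, Scheme.Hom.appLE, Category.assoc, X.presheaf.germ_res]
  constructor
  · intro h x hx
    letI : Algebra Γ(S, V) (S.presheaf.stalk (g x)) := (S.presheaf.germ V (g x) (e hx)).hom.toAlgebra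
    letI : Algebra Γ(X, U) (X.presheaf.stalk x) := (X.presheaf.germ U x hx).hom.toAlgebra
    letI : Algebra (S.presheaf.stalk (g x)) (X.presheaf.stalk x) := (g.stalkMap x).hom.toAlgebra
    letI : Algebra Γ(S, V) (X.presheaf.stalk x) :=
      ((g.stalkMap x).hom.comp (S.presheaf.germ V (g x) (e hx)).hom).toAlgebra
    haveI : IsScalarTower Γ(S, V) (S.presheaf.stalk (g x)) (X.presheaf.stalk x) :=
      .of_algebraMap_eq fun _ => rfl
    haveI : IsScalarTower Γ(S, V) Γ(X, U) (X.presheaf.stalk x) := .of_algebraMap_eq (hsq x hx)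
    haveI := hV.isLocalization_stalk ⟨g x, e hx⟩
    haveI := hU.isLocalization_stalk ⟨x, hx⟩
    have := trans_localization (Aq := S.presheaf.stalk (g x)) (Bq := X.presheaf.stalk x)
      (hV.primeIdealOf ⟨g x, e hx⟩).asIdeal.primeCompl (hU.primeIdealOf ⟨x, hx⟩).asIdeal.primeCompl _ h
    rw [RingHom.algebraMap_toAlgebra, map_res_germ fs U x hx] at this
    exact this
  · intro h
    refine trans_of_forall_maximal (B := Γ(X, U)) _ fun q hq => ?_
    let x : X := hU.fromSpec ⟨q, hq.isPrime⟩
    have hx : x ∈ U := by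
      have hr : x ∈ Set.range hU.fromSpec := Set.mem_range_self _
      rwa [hU.range_fromSpec] at hr
    have hp : hU.primeIdealOf ⟨x, hx⟩ = ⟨q, hq.isPrime⟩ :=
      hU.fromSpec.isOpenEmbedding.injective (hU.fromSpec_primeIdealOf _)
    letI : Algebra Γ(S, V) (S.presheaf.stalk (g x)) := (S.presheaf.germ V (g x) (e hx)).hom.toAlgebra
    letI : Algebra Γ(X, U) (X.presheaf.stalk x) := (X.presheaf.germ U x hx).hom.toAlgebra
    letI : Algebra (S.presheaf.stalk (g x)) (X.presheaf.stalk x) := (g.stalkMap x).hom.toAlgebra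
    letI : Algebra Γ(S, V) (X.presheaf.stalk x) :=
      ((g.stalkMap x).hom.comp (S.presheaf.germ V (g x) (e hx)).hom).toAlgebra
    haveI : IsScalarTower Γ(S, V) (S.presheaf.stalk (g x)) (X.presheaf.stalk x) :=
      .of_algebraMap_eq fun _ => rfl
    haveI : IsScalarTower Γ(S, V) Γ(X, U) (X.presheaf.stalk x) := .of_algebraMap_eq (hsq x hx)
    haveI := hV.isLocalization_stalk ⟨g x, e hx⟩
    have hloc := hU.isLocalization_stalk ⟨x, hx⟩
    simp only [hp] at hloc
    obtain ⟨hreg, hflat⟩ := h x hx
    refine ⟨X.presheaf.stalk x, inferInstance, inferInstance, inferInstance, inferInstance, hloc, ?_, fun k hk => ?_⟩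
    · rw [RingHom.algebraMap_toAlgebra, map_res_germ fs U x hx]
      exact hreg
    · rw [RingHom.algebraMap_toAlgebra, map_res_germ fs U x hx]
      have := hflat k (by simpa using hk)
      exact (Module.flat_iff_of_isLocalization (S.presheaf.stalk (g x))
        (hV.primeIdealOf ⟨g x, e hx⟩).asIdeal.primeCompl _).1 this

/-- It suffices to check on an affine cover. -/
theorem forall_onPair_iff :
    (∀ (U : X.affineOpens) (V : S.affineOpens) (e : U.1 ≤ g ⁻¹ᵁ V.1), OnPair g fs U.1 V.1 e) ↔
      ∀ x, AtPoint g fs x := by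
  refine ⟨fun h x => ?_, fun h U V e => (onPair_iff g fs U.2 V.2 e).2 fun x _ => h x⟩
  obtain ⟨V, hV, hxV, -⟩ := exists_isAffineOpen_mem_and_subset (x := g x) (U := ⊤) trivial
  obtain ⟨U, hU, hxU, e⟩ := exists_isAffineOpen_mem_and_subset (U := g ⁻¹ᵁ V) hxV
  exact (onPair_iff g fs hU hV e).1 (h ⟨U, hU⟩ ⟨V, hV⟩ e) x hxU

end Groth.Agent.TransLimH2
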