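import Groth.Agent.TransLimH2.Core
import Groth.Agent.TransLimH2.Locality

/-!
# Transversally regular sequences of sections over an affine open
-/

set_option autoImplicit false
set_option backward.isDefEq.respectTransparency false

universe u

open CategoryTheory AlgebraicGeometry CategoryTheory.Limits TensorProduct

namespace Groth.Agent.TransLimH2

theorem trans_iff_stalks {X S : Scheme.{u}} (g : X ⟶ S) {U : X.Opens} (hU : IsAffineOpen U) {V : S.Opens}
    (hV : IsAffineOpen V) (e : U ≤ g ⁻¹ᵁ V) (rs : List Γ(X, U)) :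
    letI := (g.appLE V U e).hom.toAlgebra
    RegImm.IsTransRegularSeq Γ(S, V) Γ(X, U) rs ↔ ∀ (x : X) (hx : x ∈ U),
      @RegImm.IsTransRegularSeq (S.presheaf.stalk (g x)) (X.presheaf.stalk x) _ _
        (g.stalkMap x).hom.toAlgebra (rs.map (X.presheaf.germ U x hx).hom) := by
  letI := (g.appLE V U e).hom.toAlgebra
  have hsq : ∀ (x : X) (hx : x ∈ U) (a : Γ(S, V)),
      (g.stalkMap x).hom ((S.presheaf.germ V (g x) (e hx)).hom a) =
        (X.presheaf.germ U x hx).hom (algebraMap Γ(S, V) Γ(X, U) a) := by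
    intro x hx a
    change ((S.presheaf.germ V (g x) (e hx)) ≫ g.stalkMap x) a =
      (g.appLE V U e ≫ X.presheaf.germ U x hx) a
    rw [Scheme.Hom.germ_stalkMap, Scheme.Hom.appLE, Category.assoc, X.presheaf.germ_res]
  constructor
  · intro h x hx
    letI : Algebra Γ(S, V) (S.presheaf.stalk (g x)) := (S.presheaf.germ V (g x) (e hx)).hom.toAlgebra
    letI : Algebra Γ(X, U) (X.presheaf.stalk x) := (X.presheaf.germ U x hx).hom.toAlgebra
    letI : Algebra (S.presheaf.stalk (g x)) (X.presheaf.stalk x) := (g.stalkMap x).hom.toAlgebra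
    letI : Algebra Γ(S, V) (X.presheaf.stalk x) :=
      ((g.stalkMap x).hom.comp (S.presheaf.germ V (g x) (e hx)).hom).toAlgebra
    haveI : IsScalarTower Γ(S, V) (S.presheaf.stalk (g x)) (X.presheaf.stalk x) :=
      .of_algebraMap_eq fun _ => rfl
    haveI : IsScalarTower Γ(S, V) Γ(X, U) (X.presheaf.stalk x) := .of_algebraMap_eq (hsq x hx)
    haveI := hV.isLocalization_stalk ⟨g x, e hx⟩
    haveI := hU.isLocalization_stalk ⟨x, hx⟩
    have := trans_localization (Aq := S.presheaf.stalk (g x)) (Bq := X.presheaf.stalk x)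
      (hV.primeIdealOf ⟨g x, e hx⟩).asIdeal.primeCompl (hU.primeIdealOf ⟨x, hx⟩).asIdeal.primeCompl _ h
    rw [RingHom.algebraMap_toAlgebra] at this
    exact this
  · intro h
    refine trans_of_forall_maximal (B := Γ(X, U)) _ fun q hq => ?_
    let x : X := hU.fromSpec ⟨q, hq.isPrime⟩
    have hx : x ∈ U := by
      have hr : x ∈ Set.range hU.fromSpec := Set.mem_range_self _
      rwa [hU.range_fromSpec] at hr
    have hp : hU.primeIdealOf ⟨x, hx⟩ = ⟨q, hq.isPrime⟩ :=
      hU.fromSpec.isOpenEmbedding.injective (hU.fromSpec_primeIdealOf _)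
    letI : Algebra Γ(S, V) (S.presheaf.stalk (g x)) := (S.presheaf.germ V (g x) (e hx)).hom.toAlgebra
    letI : Algebra Γ(X, U) (X.presheaf.stalk x) := (X.presheaf.germ U x hx).hom.toAlgebra
    letI : Algebra (S.presheaf.stalk (g x)) (X.presheaf.stalk x) := (g.stalkMap x).hom.toAlgebra
    letI : Algebra Γ(S, V) (X.presheaf.stalk x) :=
      ((g.stalkMap x).hom.comp (S.presheaf.germ V (g x) (e hx)).hom).toAlgebra
    haveI : IsScalarTower Γ(S, V) (S.presheaf.stalk (g x)) (X.presheaf.stalk x) :=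
      .of_algebraMap_eq fun _ => rfl
    haveI : IsScalarTower Γ(S, V) Γ(X, U) (X.presheaf.stalk x) := .of_algebraMap_eq (hsq x hx)
    haveI := hV.isLocalization_stalk ⟨g x, e hx⟩
    have hloc := hU.isLocalization_stalk ⟨x, hx⟩
    simp only [hp] at hloc
    obtain ⟨hreg, hflat⟩ := h x hx
    refine ⟨X.presheaf.stalk x, inferInstance, inferInstance, inferInstance, inferInstance, hloc, ?_, fun k hk => ?_⟩
    · rw [RingHom.algebraMap_toAlgebra]
      exact hreg
    · rw [RingHom.algebraMap_toAlgebra]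
      have := hflat k (by simpa using hk)
      exact (Module.flat_iff_of_isLocalization (S.presheaf.stalk (g x))
        (hV.primeIdealOf ⟨g x, e hx⟩).asIdeal.primeCompl _).1 this

theorem trans_restrict {X S : Scheme.{u}} (g : X ⟶ S) {U : X.Opens} (hU : IsAffineOpen U) {V : S.Opens}
    (hV : IsAffineOpen V) (e : U ≤ g ⁻¹ᵁ V) (rs : List Γ(X, U)) {U' : X.Opens} (hU' : IsAffineOpen U')
    {V' : S.Opens} (hV' : IsAffineOpen V') (e' : U' ≤ g ⁻¹ᵁ V') (hle : U' ≤ U)
    (h : letI := (g.appLE V U e).hom.toAlgebra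
      RegImm.IsTransRegularSeq Γ(S, V) Γ(X, U) rs) :
    letI := (g.appLE V' U' e').hom.toAlgebra
    RegImm.IsTransRegularSeq Γ(S, V') Γ(X, U') (rs.map (X.presheaf.map (homOfLE hle).op).hom) := by
  refine (trans_iff_stalks g hU' hV' e' _).2 fun x hx => ?_
  have := (trans_iff_stalks g hU hV e rs).1 h x (hle hx)
  rw [List.map_map]
  convert this using 1
  exact List.map_congr_left fun f _ => X.presheaf.germ_res_apply _ x hx f

theorem trans_pullback_iff {X S X' S' : Scheme.{u}} {g₀ : X ⟶ S} {q : S' ⟶ S} {fst : X' ⟶ X} {snd : X' ⟶ S'}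
    (H : IsPullback fst snd g₀ q) {V : S.Opens} (hV : IsAffineOpen V) {U : X.Opens} (hU : IsAffineOpen U)
    (eU : U ≤ g₀ ⁻¹ᵁ V) {V' : S'.Opens} (hV' : IsAffineOpen V') (eV : V' ≤ q ⁻¹ᵁ V) {W : X'.Opens}
    (hW : W = fst ⁻¹ᵁ U ⊓ snd ⁻¹ᵁ V') (eW : W ≤ fst ⁻¹ᵁ U) (eW' : W ≤ snd ⁻¹ᵁ V') (rs : List Γ(X, U)) :
    letI := (g₀.appLE V U eU).hom.toAlgebra
    letI := (q.appLE V V' eV).hom.toAlgebra
    letI := (snd.appLE V' W eW').hom.toAlgebra
    RegImm.IsTransRegularSeq Γ(S', V') Γ(X', W) (rs.map (fst.appLE U W eW).hom) ↔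
      Good Γ(S, V) rs Γ(S', V') := by
  have hp := (isIso_pushoutSection_iff H eV eU (UY := W) hW).1
    (isIso_pushoutSection_of_isAffineOpen H eV eU hW hV hV' hU)
  let _ := (g₀.appLE V U eU).hom.toAlgebra
  let _ := (q.appLE V V' eV).hom.toAlgebra
  let _ := (fst.appLE U W eW).hom.toAlgebra
  let _ := (snd.appLE V' W eW').hom.toAlgebra
  let _ : Algebra Γ(S, V) Γ(X', W) := ((fst.appLE U W eW).hom.comp (g₀.appLE V U eU).hom).toAlgebra
  have : IsScalarTower Γ(S, V) Γ(X, U) Γ(X', W) := .of_algebraMap_eq fun _ => rfl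
  have : IsScalarTower Γ(S, V) Γ(S', V') Γ(X', W) :=
    .of_algebraMap_eq fun r => ConcreteCategory.congr_hom hp.w r
  have : Algebra.IsPushout Γ(S, V) Γ(X, U) Γ(S', V') Γ(X', W) := CommRingCat.isPushout_iff_isPushout.1 hp
  have : Algebra.IsPushout Γ(S, V) Γ(S', V') Γ(X, U) Γ(X', W) := Algebra.IsPushout.symm inferInstance
  rw [← isTransRegularSeq_iff (Algebra.IsPushout.equiv Γ(S, V) Γ(S', V') Γ(X, U) Γ(X', W))]
  refine iff_of_eq (congrArg _ ?_)
  refine List.map_congr_left fun f _ => ?_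
  rw [Algebra.IsPushout.equiv_tmul, map_one, one_mul]
  rfl

/-- Membership in an ideal is reached at a finite stage. -/
theorem exists_mem_map_stage {R : Type u} [CommRing R] {ι : Type u} {G : ι → Type u} [∀ i, CommRing (G i)]
    [∀ i, Algebra R (G i)] {A : Type u} [CommRing A] [Algebra R A] {g : ∀ i, G i →ₐ[R] A}
    (hs : CAlgH.ColimSys g) (rs : List R) (x : R)
    (hx : algebraMap R A x ∈ (Ideal.ofList rs).map (algebraMap R A)) :
    ∃ j, algebraMap R (G j) x ∈ (Ideal.ofList rs).map (algebraMap R (G j)) := by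
  classical
  let v : Fin rs.length → R := fun k => rs.get k
  have hspan : Ideal.ofList rs = Ideal.span (Set.range v) := by
    rw [Ideal.ofList, Set.range_list_get]
  rw [hspan, Ideal.map_span, ← Set.range_comp] at hx
  obtain ⟨c, hc⟩ := Ideal.mem_span_range_iff_exists_fun.1 hx
  obtain ⟨i, c', hc'⟩ := hs.lift_finite c
  obtain ⟨j, h, hh⟩ := hs.kill i (algebraMap R (G i) x - ∑ k, c' k * algebraMap R (G i) (v k)) (by
    rw [map_sub, AlgHom.commutes, map_sum, sub_eq_zero, ← hc]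
    simp [hc'])
  refine ⟨j, ?_⟩
  rw [map_sub, AlgHom.commutes, sub_eq_zero] at hh
  rw [hh, map_sum, hspan]
  refine Ideal.sum_mem _ fun k _ => ?_
  rw [map_mul, AlgHom.commutes]
  exact Ideal.mul_mem_left _ _ (Ideal.mem_map_of_mem _ (Ideal.subset_span ⟨k, rfl⟩))

end Groth.Agent.TransLimH2
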