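import Groth.Agent.TransLimH2.Scheme
import Groth.Agent.TransLimH2.PointSeq
import Groth.Agent.CAlgH.KoszulDescentScheme
import Groth.Agent.CAlgH.RegImmStalk
import Groth.Agent.EGA43.InjFibre.FlatLimitGlobal

/-!
# Transversally regular immersions in a limit of schemes
-/

set_option autoImplicit false
set_option backward.isDefEq.respectTransparency false

universe u

open CategoryTheory Limits AlgebraicGeometry TopologicalSpace

namespace Groth.Agent.TransLimH2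

theorem map_appLE_comp {X Y Z : Scheme.{u}} {f : X ⟶ Y} {g : Y ⟶ Z} {h : X ⟶ Z} (hh : f ≫ g = h)
    {U : X.Opens} {V : Y.Opens} {W : Z.Opens} (eV : V ≤ g ⁻¹ᵁ W) (eU : U ≤ f ⁻¹ᵁ V) (e : U ≤ h ⁻¹ᵁ W)
    (I : Ideal Γ(Z, W)) :
    (I.map (g.appLE W V eV).hom).map (f.appLE V U eU).hom = I.map (h.appLE W U e).hom := by
  subst hh
  rw [Ideal.map_map, ← CommRingCat.hom_comp, Scheme.Hom.appLE_comp_appLE]

theorem appLE_comp_apply {X Y Z : Scheme.{u}} {f : X ⟶ Y} {g : Y ⟶ Z} {h : X ⟶ Z} (hh : f ≫ g = h)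
    {U : X.Opens} {V : Y.Opens} {W : Z.Opens} (eV : V ≤ g ⁻¹ᵁ W) (eU : U ≤ f ⁻¹ᵁ V) (e : U ≤ h ⁻¹ᵁ W)
    (r : Γ(Z, W)) : (f.appLE V U eU).hom ((g.appLE W V eV).hom r) = (h.appLE W U e).hom r := by
  subst hh
  rw [← CommRingCat.comp_apply, Scheme.Hom.appLE_comp_appLE]

/-- Base change of a transversally regular immersion, at a point. -/
theorem transAt_baseChange {X S X' S' Y Y' : Scheme.{u}} {g : X ⟶ S} {g' : X' ⟶ S'} {q : S' ⟶ S}
    {vX : X' ⟶ X} (hX : IsPullback vX g' g q) {i : Y ⟶ X} {i' : Y' ⟶ X'} {vY : Y' ⟶ Y}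
    (hY : IsPullback vY i' i vX) (y' : Y') (h : RegImm.IsTransRegularImmersionAt g i (vY y')) :
    RegImm.IsTransRegularImmersionAt g' i' y' := by
  obtain ⟨U, V, e, hyU, hcl, rs, htr, hker⟩ := h
  have hvx : vX (i' y') ∈ U.1 := by
    rw [← Scheme.Hom.comp_apply, ← hY.w, Scheme.Hom.comp_apply]
    exact hyU
  have hqV : g' (i' y') ∈ q ⁻¹ᵁ V.1 := by
    show q (g' (i' y')) ∈ V.1
    rw [← Scheme.Hom.comp_apply, ← hX.w, Scheme.Hom.comp_apply]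
    exact e hvx
  obtain ⟨V', hV', hxV', eV⟩ := exists_isAffineOpen_mem_and_subset hqV
  have hWa : IsAffineOpen (vX ⁻¹ᵁ U.1 ⊓ g' ⁻¹ᵁ V') :=
    EGA43.InjFibre.isAffineOpen_inf_preimage hX V.2 U.2 hV' e eV
  obtain ⟨hcl', hker'⟩ := CAlgH.KoszulChart.baseChange i vX i' vY hY U.2 hWa inf_le_left
  refine ⟨⟨_, hWa⟩, ⟨V', hV'⟩, inf_le_right, ⟨hvx, hxV'⟩, hcl',
    rs.map (vX.appLE U.1 _ inf_le_left).hom, ?_, ?_⟩
  · let _ := (g.appLE V.1 U.1 e).hom.toAlgebra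
    let _ := (q.appLE V.1 V' eV).hom.toAlgebra
    exact (trans_pullback_iff hX V.2 U.2 e hV' eV rfl inf_le_left inf_le_right rs).2
      (Good.bc (S := Γ(S, V.1)) (good_self rs htr))
  · rw [hker', hker, Ideal.map_ofList]

variable {I : Type u} [SmallCategory I] [IsCofiltered I] {D : I ⥤ Scheme.{u}} {c : Cone D}

set_option maxHeartbeats 800000 in
/-- A chart at the limit descends to a stage. -/
theorem exists_stage_chart [∀ (i j : I) (f : i ⟶ j), IsAffineHom (D.map f)] (hc : IsLimit c) (k : I)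
    {Xk P : Scheme.{u}} (gk : Xk ⟶ D.obj k) [LocallyOfFinitePresentation gk] {π : P ⟶ Xk} {qs : P ⟶ c.pt}
    (sq : IsPullback π qs gk (c.π.app k)) {V : (D.obj k).Opens} (hV : IsAffineOpen V) {O : Xk.Opens}
    (hO : IsAffineOpen O) (e : O ≤ gk ⁻¹ᵁ V) (rs : List Γ(Xk, O)) (K : Ideal Γ(Xk, O)) (hK : K.FG)
    (e' : π ⁻¹ᵁ O ≤ qs ⁻¹ᵁ (c.π.app k ⁻¹ᵁ V))
    (htr : letI := (qs.appLE (c.π.app k ⁻¹ᵁ V) (π ⁻¹ᵁ O) e').hom.toAlgebra
      RegImm.IsTransRegularSeq Γ(c.pt, c.π.app k ⁻¹ᵁ V) Γ(P, π ⁻¹ᵁ O)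
        (rs.map (π.appLE O (π ⁻¹ᵁ O) le_rfl).hom))
    (hid : K.map (π.appLE O (π ⁻¹ᵁ O) le_rfl).hom = (Ideal.ofList rs).map (π.appLE O (π ⁻¹ᵁ O) le_rfl).hom) :
    ∃ (j : I) (φ : j ⟶ k) (e'' : pullback.fst gk (D.map φ) ⁻¹ᵁ O ≤ pullback.snd gk (D.map φ) ⁻¹ᵁ (D.map φ ⁻¹ᵁ V)),
      (letI := ((pullback.snd gk (D.map φ)).appLE (D.map φ ⁻¹ᵁ V) (pullback.fst gk (D.map φ) ⁻¹ᵁ O) e'').hom.toAlgebra
      RegImm.IsTransRegularSeq Γ(D.obj j, D.map φ ⁻¹ᵁ V) Γ(pullback gk (D.map φ), pullback.fst gk (D.map φ) ⁻¹ᵁ O)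
        (rs.map ((pullback.fst gk (D.map φ)).appLE O (pullback.fst gk (D.map φ) ⁻¹ᵁ O) le_rfl).hom)) ∧
      K.map ((pullback.fst gk (D.map φ)).appLE O (pullback.fst gk (D.map φ) ⁻¹ᵁ O) le_rfl).hom =
        (Ideal.ofList rs).map ((pullback.fst gk (D.map φ)).appLE O (pullback.fst gk (D.map φ) ⁻¹ᵁ O) le_rfl).hom := by
  classical
  have : ∀ {i j : I} (φ : i ⟶ j), IsAffineHom (D.map φ) := fun φ => inferInstance
  have := isAffineHom_π_app D c hc k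
  have hle : ∀ {j : I} (φ : j ⟶ k),
      pullback.fst gk (D.map φ) ⁻¹ᵁ O ≤ pullback.snd gk (D.map φ) ⁻¹ᵁ (D.map φ ⁻¹ᵁ V) := fun φ z hz => by
    show (pullback.snd gk (D.map φ) ≫ D.map φ) z ∈ V
    rw [← pullback.condition]
    exact e hz
  -- the system of sections of the bases
  let EV : Over k ⥤ Scheme.{u} := Over.forget k ⋙ D
  let cV : Cone EV := c.whisker (Over.forget k)
  have hcV : IsLimit cV := (Functor.Initial.isLimitWhiskerEquiv (Over.forget k) c).symm hc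
  let pV : ∀ j : Over k, EV.obj j ⟶ D.obj k := fun j => D.map j.hom
  have hpV : ∀ {i j : Over k} (φ : i ⟶ j), EV.map φ ≫ pV j = pV i := fun φ => by
    show D.map φ.left ≫ D.map _ = D.map _
    rw [← D.map_comp, Over.w]
  have : ∀ {i j : Over k} (f : i ⟶ j), IsAffineHom (EV.map f) := fun f => inferInstanceAs (IsAffineHom (D.map f.left))
  let _ : ∀ j, Algebra Γ(D.obj k, V) Γ(EV.obj j, pV j ⁻¹ᵁ V) := fun j =>
    ((pV j).appLE V (pV j ⁻¹ᵁ V) le_rfl).hom.toAlgebra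
  let _ : Algebra Γ(D.obj k, V) Γ(cV.pt, c.π.app k ⁻¹ᵁ V) :=
    ((c.π.app k).appLE V (c.π.app k ⁻¹ᵁ V) le_rfl).hom.toAlgebra
  let _ : Algebra Γ(D.obj k, V) Γ(Xk, O) := (gk.appLE V O e).hom.toAlgebra
  have hsV := EGA43.InjFibre.colimSys_preimage (E := EV) (cE := cV) hcV pV hpV (c.π.app k)
    (fun j => c.w j.hom) hV
  have : Algebra.FinitePresentation Γ(D.obj k, V) Γ(Xk, O) := gk.finitePresentation_appLE hV hO e
  have hW : π ⁻¹ᵁ O = π ⁻¹ᵁ O ⊓ qs ⁻¹ᵁ (c.π.app k ⁻¹ᵁ V) := (inf_of_le_left e').symm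
  obtain ⟨a, ha⟩ := exists_good_stage hsV rs
    ((trans_pullback_iff sq hV hO e (hV.preimage _) le_rfl hW le_rfl e' rs).1 htr)
  -- the system of sections of the total spaces
  let EX := EGA43.Limit.stage D gk
  let cX := EGA43.Limit.stageCone D c gk sq
  have hcX : IsLimit cX := EGA43.Limit.isLimitStageCone D c gk sq hc
  let pX : ∀ j : Over k, EX.obj j ⟶ Xk := fun j => pullback.fst gk (D.map j.hom)
  have hpX : ∀ {i j : Over k} (φ : i ⟶ j), EX.map φ ≫ pX j = pX i := EGA43.Limit.stage_map_fst D gk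
  have : ∀ j, IsAffineHom (pX j) := fun j => MorphismProperty.pullback_fst gk (D.map j.hom) inferInstance
  let _ : ∀ j, Algebra Γ(Xk, O) Γ(EX.obj j, pX j ⁻¹ᵁ O) := fun j =>
    ((pX j).appLE O (pX j ⁻¹ᵁ O) le_rfl).hom.toAlgebra
  let _ : Algebra Γ(Xk, O) Γ(cX.pt, π ⁻¹ᵁ O) := (π.appLE O (π ⁻¹ᵁ O) le_rfl).hom.toAlgebra
  have hsX := EGA43.InjFibre.colimSys_preimage (E := EX) (cE := cX) hcX pX hpX π
    (fun j => pullback.lift_fst _ _ _) hO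
  obtain ⟨s, hs⟩ := hK
  obtain ⟨b₁, hb₁⟩ : ∃ b : rs.toFinset → Over k, ∀ r : rs.toFinset,
      ((pX (b r)).appLE O _ le_rfl).hom r ∈ K.map ((pX (b r)).appLE O (pX (b r) ⁻¹ᵁ O) le_rfl).hom := by
    have : ∀ r : rs.toFinset, ∃ b : Over k,
        ((pX b).appLE O _ le_rfl).hom r ∈ K.map ((pX b).appLE O (pX b ⁻¹ᵁ O) le_rfl).hom := fun r => by
      have hr : (π.appLE O (π ⁻¹ᵁ O) le_rfl).hom r ∈ (Ideal.ofList s.toList).map (π.appLE O _ le_rfl).hom := by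
        rw [show Ideal.ofList s.toList = K by rw [← hs]; simp [Ideal.ofList], hid]
        exact Ideal.mem_map_of_mem _ (Ideal.subset_span (List.mem_toFinset.1 r.2))
      obtain ⟨b, hb⟩ := exists_mem_map_stage hsX s.toList (r : Γ(Xk, O)) hr
      refine ⟨b, ?_⟩
      rw [show Ideal.ofList s.toList = K by rw [← hs]; simp [Ideal.ofList]] at hb
      exact hb
    exact Classical.axiomOfChoice this
  obtain ⟨b₂, hb₂⟩ : ∃ b : s → Over k, ∀ r : s,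
      ((pX (b r)).appLE O _ le_rfl).hom r ∈
        (Ideal.ofList rs).map ((pX (b r)).appLE O (pX (b r) ⁻¹ᵁ O) le_rfl).hom := by
    have : ∀ r : s, ∃ b : Over k,
        ((pX b).appLE O _ le_rfl).hom r ∈ (Ideal.ofList rs).map ((pX b).appLE O (pX b ⁻¹ᵁ O) le_rfl).hom :=
      fun r => exists_mem_map_stage hsX rs (r : Γ(Xk, O)) (by
        have : (r : Γ(Xk, O)) ∈ K := hs ▸ Ideal.subset_span r.2
        exact hid ▸ Ideal.mem_map_of_mem _ this)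
    exact Classical.axiomOfChoice this
  obtain ⟨l, hl⟩ := IsCofiltered.inf_objs_exists ({a} ∪ Finset.univ.image b₁ ∪ Finset.univ.image b₂)
  have hXle : ∀ {i j : Over k} (ψ : i ⟶ j), pX i ⁻¹ᵁ O ≤ EX.map ψ ⁻¹ᵁ pX j ⁻¹ᵁ O := fun ψ => by
    rw [← Scheme.Hom.comp_preimage, hpX]
  have hmono : ∀ (J : Ideal Γ(Xk, O)) (r : Γ(Xk, O)) {j : Over k} (ψ : l ⟶ j),
      ((pX j).appLE O _ le_rfl).hom r ∈ J.map ((pX j).appLE O (pX j ⁻¹ᵁ O) le_rfl).hom →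
      ((pX l).appLE O _ le_rfl).hom r ∈ J.map ((pX l).appLE O (pX l ⁻¹ᵁ O) le_rfl).hom :=
    fun J r j ψ h => by
      have := Ideal.mem_map_of_mem ((EX.map ψ).appLE _ _ (hXle ψ)).hom h
      rwa [map_appLE_comp (hpX ψ) le_rfl (hXle ψ) le_rfl, appLE_comp_apply (hpX ψ) le_rfl (hXle ψ) le_rfl] at this
  refine ⟨l.left, l.hom, hle l.hom, ?_, le_antisymm ?_ ?_⟩
  · let ψ : l ⟶ a := (hl (by simp)).some
    have hψ : pV l ⁻¹ᵁ V ≤ EV.map ψ ⁻¹ᵁ pV a ⁻¹ᵁ V := by rw [← Scheme.Hom.comp_preimage, hpV]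
    have hψ' : D.map l.hom ⁻¹ᵁ V ≤ D.map ψ.left ⁻¹ᵁ (D.map a.hom ⁻¹ᵁ V) := hψ
    let _ : Algebra Γ(D.obj k, V) Γ(D.obj l.left, D.map l.hom ⁻¹ᵁ V) :=
      ((D.map l.hom).appLE V (D.map l.hom ⁻¹ᵁ V) le_rfl).hom.toAlgebra
    let _ : Algebra Γ(EV.obj a, pV a ⁻¹ᵁ V) Γ(D.obj l.left, D.map l.hom ⁻¹ᵁ V) :=
      ((D.map ψ.left).appLE (D.map a.hom ⁻¹ᵁ V) (D.map l.hom ⁻¹ᵁ V) hψ').hom.toAlgebra
    have : IsScalarTower Γ(D.obj k, V) Γ(EV.obj a, pV a ⁻¹ᵁ V) Γ(D.obj l.left, D.map l.hom ⁻¹ᵁ V) :=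
      .of_algebraMap_eq fun r =>
        (appLE_comp_apply (f := D.map ψ.left) (g := D.map a.hom) (hpV ψ) le_rfl hψ' le_rfl r).symm
    exact (trans_pullback_iff (IsPullback.of_hasPullback gk (D.map l.hom)) hV hO e (hV.preimage _) le_rfl
      (inf_of_le_left (hle l.hom)).symm le_rfl (hle l.hom) rs).2
      (Good.bc (S := Γ(EV.obj a, pV a ⁻¹ᵁ V)) ha)
  · rw [← hs, Ideal.map_span, Ideal.span_le]
    rintro _ ⟨r, hr, rfl⟩
    exact hmono _ r (hl (by simp)).some (hb₂ ⟨r, hr⟩)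
  · rw [Ideal.map_ofList, Ideal.ofList, Ideal.span_le]
    rintro _ hz
    obtain ⟨r, hr, rfl⟩ := List.mem_map.1 hz
    exact hmono K r (hl (by simp)).some (hb₁ ⟨r, List.mem_toFinset.2 hr⟩)

set_option maxHeartbeats 1600000 in
/-- A point of transversal regularity at the limit comes from a stage. -/
theorem exists_stage_transAt [∀ (i j : I) (f : i ⟶ j), IsAffineHom (D.map f)] (hc : IsLimit c) {i₀ : I}
    {X₀ Y₀ X Y : Scheme.{u}} (g₀ : X₀ ⟶ D.obj i₀) [LocallyOfFinitePresentation g₀] (j₀ : Y₀ ⟶ X₀)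
    [IsImmersion j₀] [LocallyOfFinitePresentation j₀] {qX : X ⟶ X₀} {g : X ⟶ c.pt}
    (hX : IsPullback qX g g₀ (c.π.app i₀)) {qY : Y ⟶ Y₀} {i : Y ⟶ X} (hY : IsPullback qY i j₀ qX) (y : Y)
    (h : RegImm.IsTransRegularImmersionAt g i y) :
    ∃ (j : I) (φ : j ⟶ i₀) (Xj Yj : Scheme.{u}) (gj : Xj ⟶ D.obj j) (pX : Xj ⟶ X₀) (ij : Yj ⟶ Xj)
      (pY : Yj ⟶ Y₀) (vX : X ⟶ Xj) (vY : Y ⟶ Yj), IsPullback pX gj g₀ (D.map φ) ∧ IsPullback pY ij j₀ pX ∧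
        vX ≫ pX = qX ∧ vX ≫ gj = g ≫ c.π.app j ∧ vY ≫ pY = qY ∧ vY ≫ ij = i ≫ vX ∧
        RegImm.IsTransRegularImmersionAt gj ij (vY y) := by
  classical
  have : ∀ {i j : I} (φ : i ⟶ j), IsAffineHom (D.map φ) := fun φ => inferInstance
  obtain ⟨Uc, Vc, ec, hyc, hclc, rs, htr, hkerc⟩ := h
  obtain ⟨U₁, hxU₁, hcl₁⟩ := CAlgH.KoszulDescentScheme.exists_closed_chart j₀ (qY y)
  obtain ⟨V₀, hV₀, hxV₀, -⟩ := exists_isAffineOpen_mem_and_subset (x := g₀ (j₀ (qY y))) (U := ⊤) trivial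
  obtain ⟨U₀, hU₀, hxU₀, hU₀le⟩ :=
    exists_isAffineOpen_mem_and_subset (x := j₀ (qY y)) (U := U₁.1 ⊓ g₀ ⁻¹ᵁ V₀) ⟨hxU₁, hxV₀⟩
  have eU : U₀ ≤ g₀ ⁻¹ᵁ V₀ := hU₀le.trans inf_le_right
  obtain ⟨hcl₀, -⟩ := CAlgH.KoszulChart.restrict j₀ U₁.2 hU₀ (hU₀le.trans inf_le_left)
  let K₀ : Ideal Γ(X₀, U₀) := RingHom.ker (j₀.app U₀).hom
  have hK₀ : K₀.FG := by
    have hUY : IsAffineOpen (j₀ ⁻¹ᵁ U₀) := by
      have : IsAffine U₀.toScheme := hU₀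
      exact isAffine_of_isAffineHom (j₀ ∣_ U₀)
    have h := j₀.finitePresentation_appLE hU₀ hUY le_rfl
    rw [← Scheme.Hom.app_eq_appLE] at h
    let _ := (j₀.app U₀).hom.toAlgebra
    have : Algebra.FinitePresentation Γ(X₀, U₀) Γ(Y₀, j₀ ⁻¹ᵁ U₀) := h
    exact Algebra.FinitePresentation.ker_fG_of_surjective (Algebra.ofId Γ(X₀, U₀) Γ(Y₀, j₀ ⁻¹ᵁ U₀))
      (CAlgH.RegImmStalk.app_surjective_of_restrict j₀ hU₀)
  -- the system of total spaces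
  let EX := EGA43.Limit.stage D g₀
  let cX := EGA43.Limit.stageCone D c g₀ hX
  have hcX : IsLimit cX := EGA43.Limit.isLimitStageCone D c g₀ hX hc
  let p : ∀ j : Over i₀, EX.obj j ⟶ X₀ := fun j => pullback.fst g₀ (D.map j.hom)
  have hp : ∀ {i j : Over i₀} (φ : i ⟶ j), EX.map φ ≫ p j = p i := EGA43.Limit.stage_map_fst D g₀
  have : ∀ j, IsAffineHom (p j) := fun j => MorphismProperty.pullback_fst g₀ (D.map j.hom) inferInstance
  have := isAffineHom_π_app D c hc i₀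
  have : IsAffineHom qX := MorphismProperty.of_isPullback hX.flip inferInstance
  let _ : ∀ j, Algebra Γ(X₀, U₀) Γ(EX.obj j, p j ⁻¹ᵁ U₀) := fun j =>
    ((p j).appLE U₀ (p j ⁻¹ᵁ U₀) le_rfl).hom.toAlgebra
  let _ : Algebra Γ(X₀, U₀) Γ(cX.pt, qX ⁻¹ᵁ U₀) := (qX.appLE U₀ (qX ⁻¹ᵁ U₀) le_rfl).hom.toAlgebra
  have hsX := EGA43.InjFibre.colimSys_preimage (E := EX) (cE := cX) hcX p hp qX
    (fun j => pullback.lift_fst _ _ _) hU₀
  have hxW : i y ∈ qX ⁻¹ᵁ U₀ := by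
    show qX (i y) ∈ U₀
    rw [← Scheme.Hom.comp_apply, ← hY.w, Scheme.Hom.comp_apply]
    exact hxU₀
  obtain ⟨η, hη, hxη⟩ := (hU₀.preimage qX).exists_basicOpen_le (V := Uc.1) ⟨i y, hyc⟩ hxW
  obtain ⟨k₁, η₁, hη₁⟩ := hsX.surj η
  -- the basic open at the first stage
  let X₁ := EX.obj k₁
  let v₁ : X ⟶ X₁ := cX.π.app k₁
  have hv₁ : v₁ ≫ p k₁ = qX := pullback.lift_fst _ _ _
  have sq₁ : IsPullback v₁ g (pullback.snd g₀ (D.map k₁.hom)) (c.π.app k₁.left) :=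
    EGA43.Limit.stageCone_isPullback D c g₀ hX k₁
  let O : X₁.Opens := X₁.basicOpen η₁
  have hO : IsAffineOpen O := (hU₀.preimage (p k₁)).basicOpen η₁
  have hOle : O ≤ p k₁ ⁻¹ᵁ U₀ := X₁.basicOpen_le η₁
  have eO : O ≤ pullback.snd g₀ (D.map k₁.hom) ⁻¹ᵁ (D.map k₁.hom ⁻¹ᵁ V₀) := fun z hz => by
    show (pullback.snd g₀ (D.map k₁.hom) ≫ D.map k₁.hom) z ∈ V₀
    rw [← pullback.condition]
    exact eU (hOle hz)
  have hOη : v₁ ⁻¹ᵁ O = X.basicOpen η := by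
    have hle : qX ⁻¹ᵁ U₀ ≤ v₁ ⁻¹ᵁ p k₁ ⁻¹ᵁ U₀ := by rw [← Scheme.Hom.comp_preimage, hv₁]
    rw [← hη₁]
    show _ = X.basicOpen ((v₁.appLE (p k₁ ⁻¹ᵁ U₀) (qX ⁻¹ᵁ U₀) hle).hom η₁)
    rw [Scheme.Hom.appLE, CommRingCat.comp_apply, Scheme.basicOpen_res, ← Scheme.preimage_basicOpen]
    refine (inf_of_le_right ?_).symm
    intro z hz
    have := X₁.basicOpen_le η₁ hz
    show qX z ∈ U₀
    rw [← hv₁]
    exact this
  have hOc : v₁ ⁻¹ᵁ O ≤ Uc.1 := hOη.trans_le hη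
  -- the system over the first stage
  let g₁ : X₁ ⟶ D.obj k₁.left := pullback.snd g₀ (D.map k₁.hom)
  let EX₂ := EGA43.Limit.stage D g₁
  let cX₂ := EGA43.Limit.stageCone D c g₁ sq₁
  have hcX₂ : IsLimit cX₂ := EGA43.Limit.isLimitStageCone D c g₁ sq₁ hc
  let p₂ : ∀ j : Over k₁.left, EX₂.obj j ⟶ X₁ := fun j => pullback.fst g₁ (D.map j.hom)
  have : ∀ j, IsAffineHom (p₂ j) := fun j => MorphismProperty.pullback_fst g₁ (D.map j.hom) inferInstance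
  let _ : ∀ j, Algebra Γ(X₁, O) Γ(EX₂.obj j, p₂ j ⁻¹ᵁ O) := fun j =>
    ((p₂ j).appLE O (p₂ j ⁻¹ᵁ O) le_rfl).hom.toAlgebra
  let _ : Algebra Γ(X₁, O) Γ(cX₂.pt, v₁ ⁻¹ᵁ O) := (v₁.appLE O (v₁ ⁻¹ᵁ O) le_rfl).hom.toAlgebra
  have hsX₂ := EGA43.InjFibre.colimSys_preimage (E := EX₂) (cE := cX₂) hcX₂ p₂
    (EGA43.Limit.stage_map_fst D g₁) v₁ (fun j => pullback.lift_fst _ _ _) hO
  obtain ⟨k₂, r₂, hr₂⟩ := hsX₂.lift_finite
    (fun l : Fin rs.length => (X.presheaf.map (homOfLE hOc).op).hom (rs.get l))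
  let X₂ := EX₂.obj k₂
  let v₂ : X ⟶ X₂ := cX₂.π.app k₂
  have hv₂ : v₂ ≫ p₂ k₂ = v₁ := pullback.lift_fst _ _ _
  let g₂ : X₂ ⟶ D.obj k₂.left := pullback.snd g₁ (D.map k₂.hom)
  have sq₂ : IsPullback v₂ g g₂ (c.π.app k₂.left) := EGA43.Limit.stageCone_isPullback D c g₁ sq₁ k₂
  let O₂ : X₂.Opens := p₂ k₂ ⁻¹ᵁ O
  have hO₂ : IsAffineOpen O₂ := hO.preimage (p₂ k₂)
  have e₂ : O₂ ≤ g₂ ⁻¹ᵁ (D.map k₂.hom ⁻¹ᵁ (D.map k₁.hom ⁻¹ᵁ V₀)) := fun z hz => by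
    show (pullback.snd g₁ (D.map k₂.hom) ≫ D.map k₂.hom) z ∈ D.map k₁.hom ⁻¹ᵁ V₀
    rw [← pullback.condition]
    exact eO hz
  let a₂ : X₂ ⟶ X₀ := p₂ k₂ ≫ p k₁
  have hle₂ : O₂ ≤ a₂ ⁻¹ᵁ U₀ := fun z hz => hOle hz
  let K₂ : Ideal Γ(X₂, O₂) := K₀.map (a₂.appLE U₀ O₂ hle₂).hom
  let rs₂ : List Γ(X₂, O₂) := List.ofFn r₂
  have hOeq : v₂ ⁻¹ᵁ O₂ = v₁ ⁻¹ᵁ O := by rw [← Scheme.Hom.comp_preimage, hv₂]
  have hOa : IsAffineOpen (v₂ ⁻¹ᵁ O₂) := by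
    rw [hOeq, hOη]
    exact (hU₀.preimage qX).basicOpen η
  have hOc₂ : v₂ ⁻¹ᵁ O₂ ≤ Uc.1 := hOeq.trans_le hOc
  have hrs₂ : rs₂.map (v₂.appLE O₂ (v₂ ⁻¹ᵁ O₂) le_rfl).hom = rs.map (X.presheaf.map (homOfLE hOc₂).op).hom := by
    simp only [rs₂, List.map_ofFn]
    conv_rhs => rw [← List.ofFn_get rs, List.map_ofFn]
    refine congrArg List.ofFn (funext fun l => ?_)
    have h := congrArg (X.presheaf.map (homOfLE hOeq.le).op).hom (hr₂ l)
    change ((v₂.appLE O₂ (v₁ ⁻¹ᵁ O) hOeq.ge) ≫ X.presheaf.map _) (r₂ l) =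
      (X.presheaf.map _ ≫ X.presheaf.map _) (rs.get l) at h
    rw [Scheme.Hom.appLE_map, ← Functor.map_comp] at h
    exact h
  have := isAffineHom_π_app D c hc k₂.left
  have eX₂ : v₂ ⁻¹ᵁ O₂ ≤ g ⁻¹ᵁ (c.π.app k₂.left ⁻¹ᵁ (D.map k₂.hom ⁻¹ᵁ (D.map k₁.hom ⁻¹ᵁ V₀))) := fun z hz => by
    show (g ≫ c.π.app k₂.left) z ∈ D.map k₂.hom ⁻¹ᵁ (D.map k₁.hom ⁻¹ᵁ V₀)
    rw [← sq₂.w]
    exact e₂ hz
  have hV₂ : IsAffineOpen (D.map k₂.hom ⁻¹ᵁ (D.map k₁.hom ⁻¹ᵁ V₀)) := (hV₀.preimage _).preimage _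
  have hqX : v₂ ≫ a₂ = qX := by rw [reassoc_of% hv₂, hv₁]
  have hleI : v₂ ⁻¹ᵁ O₂ ≤ qX ⁻¹ᵁ U₀ := by
    rw [hOeq, hOη]
    exact X.basicOpen_le η
  have hid : K₂.map (v₂.appLE O₂ (v₂ ⁻¹ᵁ O₂) le_rfl).hom =
      (Ideal.ofList rs₂).map (v₂.appLE O₂ (v₂ ⁻¹ᵁ O₂) le_rfl).hom := by
    rw [map_appLE_comp hqX hle₂ le_rfl hleI, Ideal.map_ofList, hrs₂, ← Ideal.map_ofList, ← hkerc,
      ← (CAlgH.KoszulChart.baseChange j₀ qX i qY hY hU₀ hOa hleI).2]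
    exact (CAlgH.KoszulChart.restrict i Uc.2 hOa hOc₂).2
  obtain ⟨j, φ, e₃, htr₃, hid₃⟩ := exists_stage_chart hc k₂.left g₂ sq₂ hV₂ hO₂ e₂ rs₂ K₂ (hK₀.map _) eX₂
    (by rw [hrs₂]; exact trans_restrict g Uc.2 Vc.2 ec rs hOa (hV₂.preimage _) eX₂ hOc₂ htr) hid
  let X₃ := pullback g₂ (D.map φ)
  let a₃ : X₃ ⟶ X₀ := pullback.fst g₂ (D.map φ) ≫ a₂
  have hX₃ : IsPullback a₃ (pullback.snd g₂ (D.map φ)) g₀ (D.map (φ ≫ k₂.hom ≫ k₁.hom)) := by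
    rw [D.map_comp, D.map_comp]
    exact (IsPullback.of_hasPullback g₂ (D.map φ)).paste_horiz
      ((IsPullback.of_hasPullback g₁ (D.map k₂.hom)).paste_horiz (IsPullback.of_hasPullback g₀ (D.map k₁.hom)))
  let vX : X ⟶ X₃ := pullback.lift v₂ (g ≫ c.π.app j) (by rw [Category.assoc, c.w, sq₂.w])
  have hvX : vX ≫ a₃ = qX := by rw [pullback.lift_fst_assoc, hqX]
  let vY : Y ⟶ pullback j₀ a₃ := pullback.lift qY (i ≫ vX) (by rw [Category.assoc, hvX, hY.w])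
  refine ⟨j, φ ≫ k₂.hom ≫ k₁.hom, X₃, pullback j₀ a₃, pullback.snd g₂ (D.map φ), a₃, pullback.snd j₀ a₃,
    pullback.fst j₀ a₃, vX, vY, hX₃, IsPullback.of_hasPullback j₀ a₃, hvX, pullback.lift_snd _ _ _,
    pullback.lift_fst _ _ _, pullback.lift_snd _ _ _, ?_⟩
  let W := pullback.fst g₂ (D.map φ) ⁻¹ᵁ O₂
  have hW : IsAffineOpen W := by
    have : IsAffineHom (pullback.fst g₂ (D.map φ)) := MorphismProperty.pullback_fst g₂ (D.map φ) inferInstance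
    exact hO₂.preimage _
  have hWU : W ≤ a₃ ⁻¹ᵁ U₀ := fun z hz => hle₂ hz
  obtain ⟨hcl₃, hker₃⟩ := CAlgH.KoszulChart.baseChange j₀ a₃ (pullback.snd j₀ a₃) (pullback.fst j₀ a₃)
    (IsPullback.of_hasPullback j₀ a₃) hU₀ hW hWU
  refine ⟨⟨W, hW⟩, ⟨_, hV₂.preimage (D.map φ)⟩, e₃, ?_, hcl₃, _, htr₃, ?_⟩
  · show (pullback.snd j₀ a₃ ≫ pullback.fst g₂ (D.map φ)) (vY y) ∈ O₂
    rw [← Scheme.Hom.comp_apply, ← Category.assoc, pullback.lift_snd, Category.assoc, pullback.lift_fst,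
      Scheme.Hom.comp_apply]
    show v₂ (i y) ∈ O₂
    have : i y ∈ v₂ ⁻¹ᵁ O₂ := by rw [hOeq, hOη]; exact hxη
    exact this
  · rw [hker₃, ← Ideal.map_ofList, ← hid₃, map_appLE_comp (f := pullback.fst g₂ (D.map φ)) rfl hle₂ le_rfl hWU]

set_option maxHeartbeats 800000 in
/-- The limit statement. -/
theorem immersion_main [∀ (i j : I) (f : i ⟶ j), IsAffineHom (D.map f)] (hc : IsLimit c) (i₀ : I)
    {X₀ Y₀ : Scheme.{u}} (g₀ : X₀ ⟶ D.obj i₀) [LocallyOfFinitePresentation g₀] (j₀ : Y₀ ⟶ X₀)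
    [CompactSpace Y₀] [IsImmersion j₀] [LocallyOfFinitePresentation j₀] :
    RegImm.IsTransRegularImmersion (pullback.snd g₀ (c.π.app i₀)) (pullback.snd j₀ (pullback.fst g₀ (c.π.app i₀))) ↔
      ∃ (j : I) (φ : j ⟶ i₀), RegImm.IsTransRegularImmersion (pullback.snd g₀ (D.map φ))
        (pullback.snd j₀ (pullback.fst g₀ (D.map φ))) := by
  classical
  have : ∀ {i j : I} (φ : i ⟶ j), IsAffineHom (D.map φ) := fun φ => inferInstance
  let qX := pullback.fst g₀ (c.π.app i₀)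
  let g := pullback.snd g₀ (c.π.app i₀)
  let qY := pullback.fst j₀ qX
  let i := pullback.snd j₀ qX
  have hX : IsPullback qX g g₀ (c.π.app i₀) := IsPullback.of_hasPullback _ _
  have hY : IsPullback qY i j₀ qX := IsPullback.of_hasPullback _ _
  constructor
  · rintro ⟨-, h⟩
    -- the stages of `Y`
    let px : ∀ j : Over i₀, pullback g₀ (D.map j.hom) ⟶ X₀ := fun j => pullback.fst _ _
    let EY := EGA43.Limit.stage D (j₀ ≫ g₀)
    let sX := EGA43.Limit.stage D g₀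
    let pY : ∀ j : Over i₀, EY.obj j ⟶ Y₀ := fun j => pullback.fst (j₀ ≫ g₀) (D.map j.hom)
    let iE : ∀ j : Over i₀, EY.obj j ⟶ sX.obj j := fun j =>
      pullback.lift (pY j ≫ j₀) (pullback.snd _ _) (by rw [Category.assoc]; exact pullback.condition)
    have hYE : ∀ j, IsPullback (pY j) (iE j) j₀ (px j) := fun j => by
      refine IsPullback.of_bot ?_ (pullback.lift_fst _ _ _).symm (IsPullback.of_hasPullback g₀ (D.map j.hom))
      rw [pullback.lift_snd]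
      exact IsPullback.of_hasPullback (j₀ ≫ g₀) (D.map j.hom)
    have hmapsq : ∀ {j l : Over i₀} (ψ : j ⟶ l), IsPullback (EY.map ψ) (iE j) (iE l) (sX.map ψ) := by
      intro j l ψ
      refine IsPullback.of_bot ?_ ?_ (EGA43.Limit.stage_isPullback D g₀ ψ)
      · rw [pullback.lift_snd, pullback.lift_snd]
        exact EGA43.Limit.stage_isPullback D (j₀ ≫ g₀) ψ
      · apply pullback.hom_ext <;> simp [iE, sX, EY, pY, EGA43.Limit.stage]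
    have hYc : IsPullback qY (i ≫ g) (j₀ ≫ g₀) (c.π.app i₀) := hY.paste_vert hX
    let cY := EGA43.Limit.stageCone D c (j₀ ≫ g₀) hYc
    have hcY : IsLimit cY := EGA43.Limit.isLimitStageCone D c (j₀ ≫ g₀) hYc hc
    let At : ∀ j : Over i₀, EY.obj j → Prop := fun j y =>
      RegImm.IsTransRegularImmersionAt (pullback.snd g₀ (D.map j.hom)) (iE j) y
    let O : ∀ j, (EY.obj j).Opens := fun j => ⟨{y | At j y}, by
      rw [isOpen_iff_forall_mem_open]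
      rintro y ⟨U, V, e, hyU, hcl, rs, h1, h2⟩
      exact ⟨iE j ⁻¹ᵁ U.1, fun z hz => ⟨U, V, e, hz, hcl, rs, h1, h2⟩, (iE j ⁻¹ᵁ U.1).isOpen, hyU⟩⟩
    have hmono : ∀ {j l : Over i₀} (ψ : j ⟶ l), EY.map ψ ⁻¹ᵁ O l ≤ O j := fun {j l} ψ z hz =>
      transAt_baseChange (EGA43.Limit.stage_isPullback D g₀ ψ) (hmapsq ψ) z hz
    have hcover : ∀ y : cY.pt, ∃ j : Over i₀, cY.π.app j y ∈ O j := fun y => by
      obtain ⟨j', φ, Xj, Yj, gj, pX, ij, pY', vX, vY, h1, h2, h3, h4, h5, h6, h7⟩ :=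
        exists_stage_transAt hc g₀ j₀ hX hY y (h y)
      let j : Over i₀ := Over.mk φ
      let w : sX.obj j ⟶ Xj := h1.lift (px j) (pullback.snd _ _) pullback.condition
      let v : EY.obj j ⟶ Yj := h2.lift (pY j) (iE j ≫ w) (by
        rw [Category.assoc, h1.lift_fst]; exact (hYE j).w)
      have hw : IsPullback w (pullback.snd g₀ (D.map j.hom)) gj (𝟙 _) := by
        refine IsPullback.of_right ?_ (by rw [h1.lift_snd, Category.comp_id]) h1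
        rw [h1.lift_fst, Category.id_comp]
        exact IsPullback.of_hasPullback _ _
      have hv : IsPullback v (iE j) ij w := by
        refine IsPullback.of_right ?_ (h2.lift_snd _ _ _) h2
        rw [h2.lift_fst, h1.lift_fst]
        exact hYE j
      refine ⟨j, show At j (cY.π.app j y) from transAt_baseChange hw hv (cY.π.app j y) ?_⟩
      have hvy : cY.π.app j ≫ v = vY := by
        apply h2.hom_ext
        · rw [Category.assoc, h2.lift_fst, h5]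
          exact pullback.lift_fst _ _ _
        · rw [Category.assoc, h2.lift_snd, h6]
          have e1 : cY.π.app j ≫ pY j = qY := pullback.lift_fst _ _ _
          have e2 : cY.π.app j ≫ pullback.snd (j₀ ≫ g₀) (D.map j.hom) = (i ≫ g) ≫ c.π.app j' :=
            pullback.lift_snd _ _ _
          have e3 : iE j ≫ px j = pY j ≫ j₀ := pullback.lift_fst _ _ _
          have e4 : iE j ≫ pullback.snd g₀ (D.map j.hom) = pullback.snd (j₀ ≫ g₀) (D.map j.hom) :=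
            pullback.lift_snd _ _ _
          apply h1.hom_ext
          · simp only [Category.assoc]
            rw [h1.lift_fst, e3, reassoc_of% e1, h3, hY.w]
          · simp only [Category.assoc]
            rw [h1.lift_snd, e4, e2, h4, Category.assoc]
      show RegImm.IsTransRegularImmersionAt gj ij (v (cY.π.app j y))
      rwa [← Scheme.Hom.comp_apply, hvy]
    have : ∀ j : Over i₀, IsAffineHom (pY j) :=
      fun j => MorphismProperty.pullback_fst (j₀ ≫ g₀) (D.map j.hom) inferInstance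
    have hcompact : ∀ j : Over i₀, CompactSpace (EY.obj j) := fun j =>
      QuasiCompact.compactSpace_of_compactSpace (pY j)
    have : ∀ {j l : Over i₀} (ψ : j ⟶ l), IsAffineHom (EY.map ψ) := fun ψ => inferInstance
    have : CompactSpace cY.pt := Scheme.compactSpace_of_isLimit EY cY hcY
    obtain ⟨t, ht⟩ := isCompact_univ.elim_finite_subcover
      (fun j => ((cY.π.app j ⁻¹ᵁ O j : cY.pt.Opens) : Set cY.pt))
      (fun j => Opens.isOpen _) fun x _ => Set.mem_iUnion.2 (hcover x)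
    obtain ⟨k, hk⟩ := IsCofiltered.inf_objs_exists t
    have hk' : cY.π.app k ⁻¹ᵁ O k = ⊤ := top_le_iff.1 fun x _ => by
      obtain ⟨j, hj, hx⟩ := Set.mem_iUnion₂.1 (ht (Set.mem_univ x))
      refine hmono (hk hj).some ?_
      show EY.map (hk hj).some (cY.π.app k x) ∈ O j
      rw [← Scheme.Hom.comp_apply, cY.w]
      exact hx
    obtain ⟨l, ψ, hl⟩ := exists_map_eq_top EY cY hcY (O k) hk'
    refine ⟨l.left, l.hom, inferInstance, fun z => ?_⟩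
    let w := (hYE l).lift (pullback.fst j₀ (px l)) (pullback.snd j₀ (px l)) pullback.condition
    have hw : IsPullback w (pullback.snd j₀ (px l)) (iE l) (𝟙 _) := by
      refine IsPullback.of_right ?_ (by rw [(hYE l).lift_snd, Category.comp_id]) (hYE l)
      rw [(hYE l).lift_fst, Category.id_comp]
      exact IsPullback.of_hasPullback _ _
    exact transAt_baseChange IsPullback.of_id_fst hw z (hmono ψ (hl.ge trivial))
  · rintro ⟨j, φ, -, h⟩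
    refine ⟨inferInstance, fun y => ?_⟩
    let vX : pullback g₀ (c.π.app i₀) ⟶ pullback g₀ (D.map φ) :=
      pullback.lift qX (g ≫ c.π.app j) (by rw [Category.assoc, c.w, hX.w])
    have hsX : IsPullback vX g (pullback.snd g₀ (D.map φ)) (c.π.app j) := by
      refine IsPullback.of_right ?_ (pullback.lift_snd _ _ _) (IsPullback.of_hasPullback g₀ (D.map φ))
      rw [pullback.lift_fst, c.w]
      exact hX
    let vY : pullback j₀ qX ⟶ pullback j₀ (pullback.fst g₀ (D.map φ)) :=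
      pullback.lift qY (i ≫ vX) (by rw [Category.assoc, pullback.lift_fst, hY.w])
    have hsY : IsPullback vY i (pullback.snd j₀ (pullback.fst g₀ (D.map φ))) vX := by
      refine IsPullback.of_right ?_ (pullback.lift_snd _ _ _) (IsPullback.of_hasPullback j₀ _)
      rw [pullback.lift_fst, pullback.lift_fst]
      exact hY
    exact transAt_baseChange hsX hsY y (h (vY y))

end Groth.Agent.TransLimH2
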