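import Groth.Agent.TransLimH2.Core
import Groth.Agent.TransLimH2.Locality
import Groth.Agent.EGA43.InjFibre.InjLimitScheme

/-!
# Transversally regular sequences of global sections in a limit of schemes
-/

set_option autoImplicit false
set_option backward.isDefEq.respectTransparency false

universe u

open CategoryTheory Limits AlgebraicGeometry TopologicalSpace

namespace Groth.Agent.TransLimH2

/-- The restrictions of global sections. -/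
abbrev secs {X : Scheme.{u}} (fs : List Γ(X, ⊤)) (U : X.Opens) : List Γ(X, U) :=
  fs.map fun f => (X.presheaf.map (homOfLE (le_top : U ≤ ⊤)).op).hom f

variable {X S X' S' : Scheme.{u}} {g₀ : X ⟶ S} {q : S' ⟶ S} {fst : X' ⟶ X} {snd : X' ⟶ S'}

theorem onPair_pullback_iff (H : IsPullback fst snd g₀ q) (fs : List Γ(X, ⊤)) {V : S.Opens}
    (hV : IsAffineOpen V) {U : X.Opens} (hU : IsAffineOpen U) (eU : U ≤ g₀ ⁻¹ᵁ V) :
    letI := (g₀.appLE V U eU).hom.toAlgebra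
    letI := (q.appLE V (q ⁻¹ᵁ V) le_rfl).hom.toAlgebra
    ∀ (_ : IsAffineOpen (q ⁻¹ᵁ V)),
    OnPair snd (fs.map fst.appTop.hom) (fst ⁻¹ᵁ U ⊓ snd ⁻¹ᵁ q ⁻¹ᵁ V) (q ⁻¹ᵁ V) inf_le_right ↔
      Good Γ(S, V) (secs fs U) Γ(S', q ⁻¹ᵁ V) := by
  intro hV'
  let W := fst ⁻¹ᵁ U ⊓ snd ⁻¹ᵁ q ⁻¹ᵁ V
  have hp := (isIso_pushoutSection_iff H (le_refl (q ⁻¹ᵁ V)) eU (UY := W) rfl).1
    (isIso_pushoutSection_of_isAffineOpen H (le_refl (q ⁻¹ᵁ V)) eU rfl hV hV' hU)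
  let _ := (g₀.appLE V U eU).hom.toAlgebra
  let _ := (q.appLE V (q ⁻¹ᵁ V) le_rfl).hom.toAlgebra
  let _ := (fst.appLE U W inf_le_left).hom.toAlgebra
  let _ := (snd.appLE (q ⁻¹ᵁ V) W inf_le_right).hom.toAlgebra
  let _ : Algebra Γ(S, V) Γ(X', W) :=
    ((fst.appLE U W inf_le_left).hom.comp (g₀.appLE V U eU).hom).toAlgebra
  have : IsScalarTower Γ(S, V) Γ(X, U) Γ(X', W) := .of_algebraMap_eq fun _ => rfl
  have : IsScalarTower Γ(S, V) Γ(S', q ⁻¹ᵁ V) Γ(X', W) :=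
    .of_algebraMap_eq fun r => ConcreteCategory.congr_hom hp.w r
  have : Algebra.IsPushout Γ(S, V) Γ(X, U) Γ(S', q ⁻¹ᵁ V) Γ(X', W) :=
    CommRingCat.isPushout_iff_isPushout.1 hp
  have : Algebra.IsPushout Γ(S, V) Γ(S', q ⁻¹ᵁ V) Γ(X, U) Γ(X', W) := Algebra.IsPushout.symm inferInstance
  rw [← isTransRegularSeq_iff (Algebra.IsPushout.equiv Γ(S, V) Γ(S', q ⁻¹ᵁ V) Γ(X, U) Γ(X', W))]
  refine iff_of_eq ?_
  unfold OnPair
  congr 1
  rw [secs, List.map_map, List.map_map]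
  refine List.map_congr_left fun f _ => ?_
  simp only [Function.comp_apply, Algebra.IsPushout.equiv_tmul, map_one, one_mul, one_smul]
  change (fst.appTop ≫ X'.presheaf.map _) f = (X.presheaf.map _ ≫ fst.appLE U W inf_le_left) f
  rw [Scheme.Hom.appTop, Scheme.Hom.app_eq_appLE, Scheme.Hom.appLE_map, Scheme.Hom.map_appLE]

theorem main {I : Type u} [SmallCategory I]
    [IsCofiltered I] (D : I ⥤ Scheme.{u}) (c : Cone D) (hc : IsLimit c)
    [∀ (i j : I) (f : i ⟶ j), IsAffineHom (D.map f)]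
    (i₀ : I) {X₀ : Scheme.{u}} (g₀ : X₀ ⟶ D.obj i₀) [CompactSpace X₀]
    [LocallyOfFinitePresentation g₀] (fs : List Γ(X₀, ⊤)) :
    (∀ x, AtPoint (pullback.snd g₀ (c.π.app i₀)) (fs.map (pullback.fst g₀ (c.π.app i₀)).appTop.hom) x) ↔
      ∃ (j : I) (φ : j ⟶ i₀),
        ∀ x, AtPoint (pullback.snd g₀ (D.map φ)) (fs.map (pullback.fst g₀ (D.map φ)).appTop.hom) x := by
  classical
  have : ∀ {i j : I} (φ : i ⟶ j), IsAffineHom (D.map φ) := fun φ => inferInstance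
  have hch : ∀ x : X₀, ∃ (V : (D.obj i₀).Opens) (U : X₀.Opens),
      IsAffineOpen V ∧ IsAffineOpen U ∧ x ∈ U ∧ U ≤ g₀ ⁻¹ᵁ V := fun x => by
    obtain ⟨V, hV, hxV, -⟩ := exists_isAffineOpen_mem_and_subset (x := g₀ x) (U := ⊤) trivial
    obtain ⟨U, hU, hxU, e⟩ := exists_isAffineOpen_mem_and_subset (U := g₀ ⁻¹ᵁ V) hxV
    exact ⟨V, U, hV, hU, hxU, e⟩
  choose V U hV hU hxU eU using hch
  obtain ⟨t, ht⟩ := isCompact_univ.elim_finite_subcover (fun x => ((U x : X₀.Opens) : Set X₀))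
    (fun x => (U x).isOpen) fun x _ => Set.mem_iUnion.2 ⟨x, hxU x⟩
  let E : Over i₀ ⥤ Scheme.{u} := Over.forget i₀ ⋙ D
  let cE : Cone E := c.whisker (Over.forget i₀)
  have hcE : IsLimit cE := (Functor.Initial.isLimitWhiskerEquiv (Over.forget i₀) c).symm hc
  let p : ∀ j : Over i₀, E.obj j ⟶ D.obj i₀ := fun j => D.map j.hom
  have hp : ∀ {j k : Over i₀} (φ : j ⟶ k), E.map φ ≫ p k = p j := fun φ => by
    show D.map φ.left ≫ D.map _ = D.map _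
    rw [← D.map_comp, Over.w]
  have hp' : ∀ j, cE.π.app j ≫ p j = c.π.app i₀ := fun j => c.w j.hom
  have : ∀ {i j : Over i₀} (f : i ⟶ j), IsAffineHom (E.map f) := fun f => inferInstanceAs (IsAffineHom (D.map f.left))
  have := isAffineHom_π_app D c hc i₀
  constructor
  · intro h
    have hst : ∀ x : X₀, ∃ j : Over i₀,
        letI := (g₀.appLE (V x) (U x) (eU x)).hom.toAlgebra
        letI := ((p j).appLE (V x) (p j ⁻¹ᵁ V x) le_rfl).hom.toAlgebra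
        Good Γ(D.obj i₀, V x) (secs fs (U x)) Γ(E.obj j, p j ⁻¹ᵁ V x) := fun x => by
      let _ : Algebra Γ(D.obj i₀, V x) Γ(X₀, U x) := (g₀.appLE (V x) (U x) (eU x)).hom.toAlgebra
      let _ : ∀ j, Algebra Γ(D.obj i₀, V x) Γ(E.obj j, p j ⁻¹ᵁ V x) := fun j =>
        ((p j).appLE (V x) (p j ⁻¹ᵁ V x) le_rfl).hom.toAlgebra
      let _ : Algebra Γ(D.obj i₀, V x) Γ(cE.pt, c.π.app i₀ ⁻¹ᵁ V x) :=
        ((c.π.app i₀).appLE (V x) (c.π.app i₀ ⁻¹ᵁ V x) le_rfl).hom.toAlgebra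
      have hs := EGA43.InjFibre.colimSys_preimage (E := E) (cE := cE) hcE p hp (c.π.app i₀) hp' (hV x)
      have hfp : Algebra.FinitePresentation Γ(D.obj i₀, V x) Γ(X₀, U x) :=
        g₀.finitePresentation_appLE (hV x) (hU x) (eU x)
      have hV' : IsAffineOpen (c.π.app i₀ ⁻¹ᵁ V x) := (hV x).preimage (c.π.app i₀)
      refine exists_good_stage hs (secs fs (U x))
        ((onPair_pullback_iff (IsPullback.of_hasPullback g₀ (c.π.app i₀)) fs (hV x) (hU x) (eU x) hV').1 ?_)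
      have hW : IsAffineOpen ((pullback.fst g₀ (c.π.app i₀)) ⁻¹ᵁ U x ⊓
          pullback.snd g₀ (c.π.app i₀) ⁻¹ᵁ (c.π.app i₀) ⁻¹ᵁ V x) :=
        EGA43.InjFibre.isAffineOpen_inf_preimage (IsPullback.of_hasPullback g₀ (c.π.app i₀))
          (hV x) (hU x) hV' (eU x) le_rfl
      exact (onPair_iff _ _ hW hV' inf_le_right).2 fun y _ => h y
    choose j hj using hst
    obtain ⟨k, hk⟩ := IsCofiltered.inf_objs_exists (t.image j)
    refine ⟨k.left, k.hom, fun y => ?_⟩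
    obtain ⟨x, hxt, hyU⟩ := Set.mem_iUnion₂.1 (ht (Set.mem_univ (pullback.fst g₀ (D.map k.hom) y)))
    let ψ : k ⟶ j x := (hk (Finset.mem_image_of_mem j hxt)).some
    let _ : Algebra Γ(D.obj i₀, V x) Γ(X₀, U x) := (g₀.appLE (V x) (U x) (eU x)).hom.toAlgebra
    let _ : Algebra Γ(D.obj i₀, V x) Γ(E.obj (j x), p (j x) ⁻¹ᵁ V x) :=
      ((p (j x)).appLE (V x) (p (j x) ⁻¹ᵁ V x) le_rfl).hom.toAlgebra
    let _ : Algebra Γ(D.obj i₀, V x) Γ(E.obj k, p k ⁻¹ᵁ V x) :=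
      ((p k).appLE (V x) (p k ⁻¹ᵁ V x) le_rfl).hom.toAlgebra
    have hle : p k ⁻¹ᵁ V x ≤ E.map ψ ⁻¹ᵁ p (j x) ⁻¹ᵁ V x := by rw [← Scheme.Hom.comp_preimage, hp]
    let _ : Algebra Γ(E.obj (j x), p (j x) ⁻¹ᵁ V x) Γ(E.obj k, p k ⁻¹ᵁ V x) :=
      ((E.map ψ).appLE _ _ hle).hom.toAlgebra
    have : IsScalarTower Γ(D.obj i₀, V x) Γ(E.obj (j x), p (j x) ⁻¹ᵁ V x) Γ(E.obj k, p k ⁻¹ᵁ V x) :=
      .of_algebraMap_eq fun r => by
        show (p k).appLE _ _ _ r = ((p (j x)).appLE _ _ _ ≫ (E.map ψ).appLE _ _ _) r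
        rw [Scheme.Hom.appLE_comp_appLE]
        exact EGA43.InjFibre.appLE_congr_apply (hp ψ).symm _ _ r
    have hV' : IsAffineOpen (D.map k.hom ⁻¹ᵁ V x) := (hV x).preimage _
    have hg : Good Γ(D.obj i₀, V x) (secs fs (U x)) Γ(E.obj k, p k ⁻¹ᵁ V x) :=
      Good.bc (S := Γ(E.obj (j x), p (j x) ⁻¹ᵁ V x)) (hj x)
    have hon := (onPair_pullback_iff (IsPullback.of_hasPullback g₀ (D.map k.hom)) fs (hV x) (hU x)
      (eU x) hV').2 hg
    refine (onPair_iff _ _ (EGA43.InjFibre.isAffineOpen_inf_preimage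
      (IsPullback.of_hasPullback g₀ (D.map k.hom)) (hV x) (hU x) hV' (eU x) le_rfl) hV' inf_le_right).1
      hon y ⟨hyU, ?_⟩
    show (pullback.snd g₀ (D.map k.hom) ≫ D.map k.hom) y ∈ V x
    rw [← pullback.condition]
    exact eU x hyU
  · rintro ⟨i, φ, h⟩ y
    obtain ⟨x, -, hyU⟩ := Set.mem_iUnion₂.1 (ht (Set.mem_univ (pullback.fst g₀ (c.π.app i₀) y)))
    let _ : Algebra Γ(D.obj i₀, V x) Γ(X₀, U x) := (g₀.appLE (V x) (U x) (eU x)).hom.toAlgebra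
    let _ : Algebra Γ(D.obj i₀, V x) Γ(D.obj i, D.map φ ⁻¹ᵁ V x) :=
      ((D.map φ).appLE (V x) (D.map φ ⁻¹ᵁ V x) le_rfl).hom.toAlgebra
    let _ : Algebra Γ(D.obj i₀, V x) Γ(((Functor.const I).obj c.pt).obj i₀, c.π.app i₀ ⁻¹ᵁ V x) :=
      ((c.π.app i₀).appLE (V x) (c.π.app i₀ ⁻¹ᵁ V x) le_rfl).hom.toAlgebra
    have hle : c.π.app i₀ ⁻¹ᵁ V x ≤ c.π.app i ⁻¹ᵁ D.map φ ⁻¹ᵁ V x := by
      rw [← Scheme.Hom.comp_preimage, c.w]
    let _ : Algebra Γ(D.obj i, D.map φ ⁻¹ᵁ V x) Γ(((Functor.const I).obj c.pt).obj i₀, c.π.app i₀ ⁻¹ᵁ V x) :=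
      ((c.π.app i).appLE _ _ hle).hom.toAlgebra
    have : IsScalarTower Γ(D.obj i₀, V x) Γ(D.obj i, D.map φ ⁻¹ᵁ V x) Γ(((Functor.const I).obj c.pt).obj i₀, c.π.app i₀ ⁻¹ᵁ V x) :=
      .of_algebraMap_eq fun r => by
        show (c.π.app i₀).appLE _ _ _ r = ((D.map φ).appLE _ _ _ ≫ (c.π.app i).appLE _ _ _) r
        rw [Scheme.Hom.appLE_comp_appLE]
        exact EGA43.InjFibre.appLE_congr_apply (c.w φ).symm _ _ r
    have hVi : IsAffineOpen (D.map φ ⁻¹ᵁ V x) := (hV x).preimage _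
    have hV' : IsAffineOpen (c.π.app i₀ ⁻¹ᵁ V x) := (hV x).preimage _
    have hg := (onPair_pullback_iff (IsPullback.of_hasPullback g₀ (D.map φ)) fs (hV x) (hU x) (eU x) hVi).1
      ((onPair_iff _ _ (EGA43.InjFibre.isAffineOpen_inf_preimage
        (IsPullback.of_hasPullback g₀ (D.map φ)) (hV x) (hU x) hVi (eU x) le_rfl) hVi inf_le_right).2
        fun z _ => h z)
    have hon := (onPair_pullback_iff (IsPullback.of_hasPullback g₀ (c.π.app i₀)) fs (hV x) (hU x)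
      (eU x) hV').2 (Good.bc (S := Γ(D.obj i, D.map φ ⁻¹ᵁ V x)) hg)
    refine (onPair_iff _ _ (EGA43.InjFibre.isAffineOpen_inf_preimage
      (IsPullback.of_hasPullback g₀ (c.π.app i₀)) (hV x) (hU x) hV' (eU x) le_rfl) hV' inf_le_right).1
      hon y ⟨hyU, ?_⟩
    show (pullback.snd g₀ (c.π.app i₀) ≫ c.π.app i₀) y ∈ V x
    rw [← pullback.condition]
    exact eU x hyU

end Groth.Agent.TransLimH2
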