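import Groth.Agent.CAlgH.BlowupModel
import Groth.Agent.H8Lim.FlatDescent
import Groth.Prelude.Def_RegImm

/-!
# Transversally regular sequences: base change and descent to a stage (EGA IV 11.3.7)
-/

set_option autoImplicit false
set_option backward.isDefEq.respectTransparency false

universe u v

open TensorProduct

namespace Groth.Agent.TransLimH2

variable {R P : Type u} [CommRing R] [CommRing P] [Algebra R P]

/-- The ideal of the first `k` elements. -/
abbrev part (fs : List P) (k : ℕ) : Ideal P := Ideal.ofList (fs.take k)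

variable (R) in
/-- `fs` stays transversally regular over the `R`-algebra `T`. -/
def Good (fs : List P) (T : Type u) [CommRing T] [Algebra R T] : Prop :=
  (∀ k ≤ fs.length, Module.Flat T (T ⊗[R] (P ⧸ part fs k))) ∧
    ∀ (k : ℕ) (h : k < fs.length) (x : T ⊗[R] (P ⧸ part fs k)),
      (1 : T) ⊗ₜ[R] Ideal.Quotient.mk (part fs k) fs[k] * x = 0 → x = 0

theorem flat_bc {N : Type u} [AddCommGroup N] [Module R N] (S T : Type u) [CommRing S] [CommRing T]
    [Algebra R S] [Algebra R T] [Algebra S T] [IsScalarTower R S T] [Module.Flat S (S ⊗[R] N)] :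
    Module.Flat T (T ⊗[R] N) :=
  Module.Flat.of_linearEquiv (AlgebraTensorModule.cancelBaseChange R S T T N).symm

theorem lTensor_mulLeft {Q : Type u} [CommRing Q] [Algebra R Q] (T : Type u) [CommRing T] [Algebra R T]
    (b : Q) (x : T ⊗[R] Q) : (LinearMap.mulLeft R b).lTensor T x = (1 : T) ⊗ₜ[R] b * x := by
  induction x using TensorProduct.induction_on with
  | zero => rw [map_zero, mul_zero]
  | add p q hp hq => rw [map_add, hp, hq, mul_add]
  | tmul t q => rw [LinearMap.lTensor_tmul, LinearMap.mulLeft_apply, Algebra.TensorProduct.tmul_mul_tmul, one_mul]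

theorem exists_lTensor_ker_preimage {S : Type u} [CommRing S] {M M' : Type u} [AddCommGroup M] [Module S M]
    [AddCommGroup M'] [Module S M'] (T : Type u) [AddCommGroup T] [Module S T] (u : M →ₗ[S] M')
    (hinj : Function.Injective ((LinearMap.range u).subtype.lTensor T)) (x : T ⊗[S] M)
    (hx : u.lTensor T x = 0) : ∃ w, (LinearMap.ker u).subtype.lTensor T w = x := by
  have hex : Function.Exact (LinearMap.ker u).subtype u.rangeRestrict := fun z => by
    rw [← LinearMap.mem_ker, LinearMap.ker_rangeRestrict]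
    exact ⟨fun hz => ⟨⟨z, hz⟩, rfl⟩, fun ⟨w, hw⟩ => hw ▸ w.2⟩
  refine (lTensor_exact T hex u.surjective_rangeRestrict x).1 (hinj ?_)
  rw [map_zero, ← LinearMap.lTensor_comp_apply, LinearMap.subtype_comp_codRestrict]
  exact hx

set_option maxHeartbeats 1000000 in
/-- The kernel of an endomorphism with flat cokernel after extension of the base comes from below. -/
theorem eq_zero_of_ker_killed {N N' : Type u} [AddCommGroup N] [Module R N] [AddCommGroup N']
    [Module R N'] (μ : N →ₗ[R] N) (π : N →ₗ[R] N') (hπ : Function.Surjective π)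
    (hex : Function.Exact μ π) (S T : Type u) [CommRing S] [CommRing T] [Algebra R S] [Algebra R T]
    [Algebra S T] [IsScalarTower R S T] [Module.Flat S (S ⊗[R] N')]
    (hker : ∀ z : S ⊗[R] N, μ.lTensor S z = 0 → (IsScalarTower.toAlgHom R S T).toLinearMap.rTensor N z = 0)
    (x : T ⊗[R] N) (hx : μ.lTensor T x = 0) : x = 0 := by
  let uS : S ⊗[R] N →ₗ[S] S ⊗[R] N := AlgebraTensorModule.lTensor S S μ
  let pS : S ⊗[R] N →ₗ[S] S ⊗[R] N' := AlgebraTensorModule.lTensor S S π
  have hu : ∀ z, uS z = μ.lTensor S z := fun z => rfl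
  have hp : ∀ z, pS z = π.lTensor S z := fun z => rfl
  have hexS : Function.Exact (LinearMap.range uS).subtype pS := by
    intro z
    rw [hp, lTensor_exact S hex hπ z]
    exact ⟨fun ⟨y, hy⟩ => ⟨⟨z, y, hy⟩, rfl⟩, fun ⟨⟨_, y, hy⟩, e⟩ => ⟨y, hy.trans e⟩⟩
  have hsurjS : Function.Surjective pS := LinearMap.lTensor_surjective S hπ
  have hinj : Function.Injective ((LinearMap.range uS).subtype.lTensor T) :=
    LinearMap.lTensor_injective_of_exact_of_flat pS hsurjS _ (Submodule.injective_subtype _) hexS T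
  let Φ : T ⊗[S] (S ⊗[R] N) ≃ₗ[T] T ⊗[R] N := AlgebraTensorModule.cancelBaseChange R S T T N
  have hΦ : ∀ w, Φ (uS.lTensor T w) = μ.lTensor T (Φ w) := by
    intro w
    induction w using TensorProduct.induction_on with
    | zero => simp
    | add p q hp hq => simp [hp, hq]
    | tmul t z =>
      rw [LinearMap.lTensor_tmul]
      induction z using TensorProduct.induction_on with
      | zero => simp
      | add p q hp hq => simp [tmul_add, hp, hq]
      | tmul s n => simp [Φ, uS]
  have h0 : uS.lTensor T (Φ.symm x) = 0 := Φ.injective (by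
    rw [hΦ, LinearEquiv.apply_symm_apply, hx, map_zero])
  obtain ⟨w, hw⟩ := exists_lTensor_ker_preimage T uS hinj (Φ.symm x) h0
  rw [← Φ.apply_symm_apply x, ← hw]
  clear hw h0 hx
  induction w using TensorProduct.induction_on with
  | zero => simp
  | add p q hp hq => rw [map_add, map_add, hp, hq, add_zero]
  | tmul t z =>
    have hz : uS z.1 = 0 := LinearMap.mem_ker.1 z.2
    have key : ∀ y : S ⊗[R] N,
        Φ (t ⊗ₜ[S] y) = t • (IsScalarTower.toAlgHom R S T).toLinearMap.rTensor N y := fun y => by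
      induction y using TensorProduct.induction_on with
      | zero => simp
      | add p q hp hq => simp [tmul_add, hp, hq]
      | tmul s n => simp [Φ, TensorProduct.smul_tmul', Algebra.smul_def, mul_comm]
    rw [LinearMap.lTensor_tmul, Submodule.subtype_apply, key, hker _ ((hu _).symm.trans hz), smul_zero]

theorem exact_part (fs : List P) (k : ℕ) (h : k < fs.length) :
    part fs k ≤ part fs (k + 1) ∧ ∃ π : (P ⧸ part fs k) →ₗ[R] P ⧸ part fs (k + 1),
      Function.Surjective π ∧
        Function.Exact (LinearMap.mulLeft R (Ideal.Quotient.mk (part fs k) fs[k])) π := by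
  have e : part fs (k + 1) = part fs k ⊔ Ideal.span {fs[k]} := by
    unfold part
    rw [List.take_succ_eq_append_getElem h, Ideal.ofList_append, Ideal.ofList_singleton]
  have hle : part fs k ≤ part fs (k + 1) := e ▸ le_sup_left
  refine ⟨hle, (Ideal.Quotient.factorₐ R hle).toLinearMap, Ideal.Quotient.factor_surjective hle, fun z => ?_⟩
  obtain ⟨z, rfl⟩ := Ideal.Quotient.mk_surjective z
  constructor
  · intro hz
    have hz' : z ∈ part fs (k + 1) := Ideal.Quotient.eq_zero_iff_mem.1 hz
    rw [e, Submodule.mem_sup] at hz'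
    obtain ⟨a, ha, b, hb, rfl⟩ := hz'
    obtain ⟨c, rfl⟩ := Ideal.mem_span_singleton'.1 hb
    refine ⟨Ideal.Quotient.mk _ c, ?_⟩
    rw [LinearMap.mulLeft_apply, map_add, Ideal.Quotient.eq_zero_iff_mem.2 ha, zero_add, map_mul,
      mul_comm]
  · rintro ⟨y, hy⟩
    obtain ⟨y, rfl⟩ := Ideal.Quotient.mk_surjective y
    show Ideal.Quotient.factor hle (Ideal.Quotient.mk _ z) = 0
    rw [← hy, LinearMap.mulLeft_apply, ← map_mul, Ideal.Quotient.factor_mk,
      Ideal.Quotient.eq_zero_iff_mem, e]
    exact Ideal.mem_sup_right (Ideal.mul_mem_right _ _ (Ideal.mem_span_singleton_self _))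

theorem Good.bc {fs : List P} {S T : Type u} [CommRing S] [CommRing T] [Algebra R S] [Algebra R T]
    [Algebra S T] [IsScalarTower R S T] (h : Good R fs S) : Good R fs T := by
  refine ⟨fun k hk => by haveI := h.1 k hk; exact flat_bc S T, fun k hk x hx => ?_⟩
  obtain ⟨-, π, hπ, hex⟩ := exact_part (R := R) fs k hk
  haveI := h.1 (k + 1) hk
  refine eq_zero_of_ker_killed _ π hπ hex S T (fun z hz => ?_) x (by rw [lTensor_mulLeft, hx])
  rw [lTensor_mulLeft] at hz
  rw [h.2 k hk z hz, map_zero]

/-- Descent to a finitely generated stage over a Noetherian base. -/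
theorem exists_stage_noetherian [IsNoetherianRing R] [Algebra.FiniteType R P] {fs : List P}
    {A : Type u} [CommRing A] [Algebra R A] (h : Good R fs A) :
    ∃ C : Subalgebra R A, C.FG ∧ Good R fs C := by
  classical
  have hfl : ∀ k : Fin (fs.length + 1), ∃ B : Subalgebra R A, B.FG ∧
      Module.Flat B (B ⊗[R] (P ⧸ part fs k)) := fun k => by
    haveI := h.1 k (Nat.lt_succ_iff.1 k.2)
    exact EGA43.FlatDescent.exists_stage_flat P
  choose Bk hBk hBflat using hfl
  let B : Subalgebra R A := Finset.univ.sup Bk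
  have hB : B.FG :=
    Finset.sup_induction Subalgebra.fg_bot (fun a ha b hb => Subalgebra.FG.sup ha hb) fun k _ => hBk k
  have hBF : ∀ k ≤ fs.length, Module.Flat B (B ⊗[R] (P ⧸ part fs k)) := fun k hk => by
    let k' : Fin (fs.length + 1) := ⟨k, Nat.lt_succ_iff.2 hk⟩
    let φ := Subalgebra.inclusion (Finset.le_sup (f := Bk) (Finset.mem_univ k'))
    letI : Algebra (Bk k') B := φ.toRingHom.toAlgebra
    haveI : IsScalarTower R (Bk k') B := IsScalarTower.of_algebraMap_eq fun r => (φ.commutes r).symm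
    haveI := hBflat k'
    exact flat_bc (N := P ⧸ part fs k) (Bk k') B
  haveI := EGA43.FlatDescent.isNoetherianRing_of_fg hB
  have hgen : ∀ k : Fin fs.length, ∃ s : Finset (B ⊗[R] (P ⧸ part fs k)),
      Ideal.span (s : Set (B ⊗[R] (P ⧸ part fs k))) =
        LinearMap.ker (LinearMap.mulLeft (B ⊗[R] (P ⧸ part fs k))
          ((1 : B) ⊗ₜ[R] Ideal.Quotient.mk (part fs k) fs[k.1])) := fun k => by
    haveI : Algebra.FiniteType R (P ⧸ part fs k) :=
      Algebra.FiniteType.of_surjective (Ideal.Quotient.mkₐ R _) Ideal.Quotient.mk_surjective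
    haveI : Algebra.FiniteType B (B ⊗[R] (P ⧸ part fs k)) := Algebra.FiniteType.baseChange B
    haveI : IsNoetherianRing (B ⊗[R] (P ⧸ part fs k)) := Algebra.FiniteType.isNoetherianRing B _
    exact IsNoetherian.noetherian _
  choose s hs using hgen
  have hdie : ∀ (k : Fin fs.length) (z : s k),
      B.val.toLinearMap.rTensor (P ⧸ part fs k) z.1 = 0 := fun k z => by
    refine h.2 k k.2 _ ?_
    have hz : ((1 : B) ⊗ₜ[R] Ideal.Quotient.mk (part fs k) fs[k.1]) * z.1 = 0 :=
      LinearMap.mem_ker.1 ((hs k).le (Ideal.subset_span z.2))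
    show (1 : A) ⊗ₜ[R] _ * Algebra.TensorProduct.map B.val (AlgHom.id R _) z.1 = 0
    have := congrArg (Algebra.TensorProduct.map B.val (AlgHom.id R (P ⧸ part fs k))) hz
    rw [map_mul, map_zero] at this
    simpa using this
  choose D hBD hD hD0 using fun (t : Σ k : Fin fs.length, s k) =>
    TensorProduct.Algebra.eq_of_fg_of_subtype_eq hB (t := t.2.1) (t' := 0)
      ((hdie t.1 t.2).trans (map_zero _).symm)
  let C : Subalgebra R A := B ⊔ Finset.univ.sup D
  have hC : C.FG := Subalgebra.FG.sup hB
    (Finset.sup_induction Subalgebra.fg_bot (fun a ha b hb => Subalgebra.FG.sup ha hb) fun t _ => hD t)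
  let ι : B →ₐ[R] C := Subalgebra.inclusion le_sup_left
  letI : Algebra B C := ι.toRingHom.toAlgebra
  haveI : IsScalarTower R B C := IsScalarTower.of_algebraMap_eq fun r => (ι.commutes r).symm
  refine ⟨C, hC, fun k hk => by haveI := hBF k hk; exact flat_bc B C, fun k hk x hx => ?_⟩
  obtain ⟨-, π, hπ, hex⟩ := exact_part (R := R) fs k hk
  haveI := hBF (k + 1) hk
  refine eq_zero_of_ker_killed _ π hπ hex B C (fun z hz => ?_) x (by rw [lTensor_mulLeft, hx])
  rw [lTensor_mulLeft] at hz
  let k' : Fin fs.length := ⟨k, hk⟩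
  have hz' : z ∈ Ideal.span (s k' : Set (B ⊗[R] (P ⧸ part fs k))) :=
    (hs k').ge (LinearMap.mem_ker.2 hz)
  show Algebra.TensorProduct.map ι (AlgHom.id R (P ⧸ part fs k)) z = 0
  rw [← RingHom.mem_ker]
  refine Ideal.span_le.2 (fun w hw => ?_) hz'
  rw [SetLike.mem_coe, RingHom.mem_ker]
  have h0 := hD0 ⟨k', ⟨w, hw⟩⟩
  rw [map_zero] at h0
  let j : D ⟨k', ⟨w, hw⟩⟩ →ₐ[R] C :=
    Subalgebra.inclusion ((Finset.le_sup (f := D) (Finset.mem_univ _)).trans le_sup_right)
  have := congrArg (j.toLinearMap.rTensor (P ⧸ part fs k)) h0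
  rw [map_zero, ← LinearMap.rTensor_comp_apply] at this
  exact this

set_option maxHeartbeats 1000000 in
/-- The bridge with the predicate of the statements. -/
theorem isTransRegularSeq_iff {T B : Type u} [CommRing T] [CommRing B] [Algebra R T] [Algebra T B]
    (ψ : T ⊗[R] P ≃ₐ[T] B) (fs : List P) :
    RegImm.IsTransRegularSeq T B (fs.map fun p => ψ ((1 : T) ⊗ₜ[R] p)) ↔ Good R fs T := by
  let rs := fs.map fun p => ψ ((1 : T) ⊗ₜ[R] p)
  let J : ℕ → Ideal (T ⊗[R] P) := fun k =>
    (part fs k).map (Algebra.TensorProduct.includeRight : P →ₐ[R] T ⊗[R] P).toRingHom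
  have hJ : ∀ k, Ideal.ofList (rs.take k) = (J k).map (ψ : T ⊗[R] P →+* B) := fun k => by
    rw [Ideal.map_map, Ideal.map_ofList]
    simp only [rs, ← List.map_take]
    rfl
  let e : ∀ k, T ⊗[R] (P ⧸ part fs k) ≃ₐ[T] B ⧸ Ideal.ofList (rs.take k) := fun k =>
    (Algebra.TensorProduct.tensorQuotientEquiv (R := R) T P T (part fs k)).trans
      (Ideal.quotientEquivAlg (J k) _ ψ (hJ k))
  have he : ∀ k p, e k ((1 : T) ⊗ₜ[R] Ideal.Quotient.mk (part fs k) p) =
      Ideal.Quotient.mk _ (ψ ((1 : T) ⊗ₜ[R] p)) := fun k p => rfl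
  have hlen : rs.length = fs.length := List.length_map _
  constructor
  · rintro ⟨hreg, hflat⟩
    refine ⟨fun k hk => ?_, fun k hk x hx => ?_⟩
    · haveI := hflat k (hlen.symm ▸ hk)
      exact Module.Flat.of_linearEquiv (e k).toLinearEquiv
    · have h := hreg.regular_mod_prev k (hlen.symm ▸ hk)
      have htop : (Ideal.ofList (rs.take k) • ⊤ : Ideal B) = Ideal.ofList (rs.take k) := Ideal.mul_top _
      rw [htop] at h
      refine (e k).injective ((map_zero (e k)).symm ▸ h.right_eq_zero_of_smul ?_)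
      have := congrArg (e k) hx
      rw [map_mul, map_zero, he] at this
      rw [Algebra.smul_def, Ideal.Quotient.algebraMap_eq]
      simpa [rs] using this
  · rintro ⟨hflat, hinj⟩
    refine ⟨⟨fun k hk => ?_⟩, fun k hk => ?_⟩
    · have htop : (Ideal.ofList (rs.take k) • ⊤ : Ideal B) = Ideal.ofList (rs.take k) := Ideal.mul_top _
      rw [htop]
      refine IsSMulRegular.of_right_eq_zero_of_smul fun y hy => ?_
      obtain ⟨x, rfl⟩ := (e k).surjective y
      rw [hinj k (hlen ▸ hk) x ((e k).injective ?_), map_zero]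
      rw [map_mul, map_zero, he]
      rw [Algebra.smul_def, Ideal.Quotient.algebraMap_eq] at hy
      simpa [rs] using hy
    · haveI := hflat k (le_of_le_of_eq hk hlen)
      exact Module.Flat.of_linearEquiv (e k).symm.toLinearEquiv

variable {A B : Type u} [CommRing A] [CommRing B] [Algebra A B]

/-- Base change of transversally regular sequences. -/
theorem good_self (rs : List B) (h : RegImm.IsTransRegularSeq A B rs) : Good A rs A := by
  refine (isTransRegularSeq_iff (Algebra.TensorProduct.lid A B) rs).1 ?_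
  simpa using h

/-- Descent of transversally regular sequences to a stage of a colimit. -/
theorem exists_good_stage {ι : Type v} {G : ι → Type u} [∀ i, CommRing (G i)] [∀ i, Algebra A (G i)]
    {A' : Type u} [CommRing A'] [Algebra A A'] {g : ∀ i, G i →ₐ[A] A'} (hs : CAlgH.ColimSys g)
    [Algebra.FinitePresentation A B] (rs : List B) (h : Good A rs A') : ∃ j, Good A rs (G j) := by
  obtain ⟨R, _, _, _, P, _, _, _, ψ, f, hf⟩ :=
    CAlgH.BlowupModel.exists_model (A := A) (fun i => rs.get i)
  let fs : List P := List.ofFn f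
  have hrs : rs = fs.map fun p => ψ ((1 : A) ⊗ₜ[R] p) := by
    simp only [fs, List.map_ofFn]
    conv_lhs => rw [← List.ofFn_get rs]
    exact congrArg List.ofFn (funext fun i => (hf i).symm)
  have key : ∀ (T : Type u) [CommRing T] [Algebra A T] [Algebra R T] [IsScalarTower R A T],
      Good A rs T ↔ Good R fs T := fun T _ _ _ _ => by
    let φ : T ⊗[R] P ≃ₐ[T] T ⊗[A] B :=
      (Algebra.TensorProduct.cancelBaseChange R A T T P).symm.trans
        (Algebra.TensorProduct.congr AlgEquiv.refl ψ)
    rw [← isTransRegularSeq_iff (AlgEquiv.refl : T ⊗[A] B ≃ₐ[T] _) rs, ← isTransRegularSeq_iff φ fs]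
    rw [hrs, List.map_map]
    exact iff_of_eq (congrArg _ (List.map_congr_left fun p _ => by simp [φ]))
  letI : Algebra R A' := ((algebraMap A A').comp (algebraMap R A)).toAlgebra
  haveI : IsScalarTower R A A' := .of_algebraMap_eq fun _ => rfl
  letI : ∀ i, Algebra R (G i) := fun i => ((algebraMap A (G i)).comp (algebraMap R A)).toAlgebra
  haveI : ∀ i, IsScalarTower R A (G i) := fun i => .of_algebraMap_eq fun _ => rfl
  obtain ⟨C, hC, hCgood⟩ := exists_stage_noetherian ((key A').1 h)
  haveI := EGA43.FlatDescent.isNoetherianRing_of_fg hC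
  haveI : Algebra.FiniteType R C := C.fg_iff_finiteType.1 hC
  haveI : Algebra.FinitePresentation R C := Algebra.FinitePresentation.of_finiteType.1 inferInstance
  obtain ⟨j, ⟨φ⟩⟩ := H8Lim.exists_algHom_stage hs (R₀ := R) C C.val
  letI : Algebra C (G j) := φ.toRingHom.toAlgebra
  haveI : IsScalarTower R C (G j) := .of_algebraMap_eq fun r => (φ.commutes r).symm
  exact ⟨j, (key (G j)).2 hCgood.bc⟩

end Groth.Agent.TransLimH2
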